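import Cfsg.Agent.H236.TwoIso

/-!
# `PSp_2m` and `POmega` (helper236)

`z` an element of `K = PSp_2m(F)`, `POmega(V)` of prime order `p ≠ r` (`r` the characteristic), `WS r C_K(z)`.

* `psp_odd`, `omega_odd` : `p` odd, `z = [x, y]`, `x`, `y` of order `p` commuting with `z` and inverted by `h` commuting
  with `z`;
* `psp_two`, `omega_two` : `p = 2`.
-/

set_option autoImplicit false
set_option linter.unusedSectionVars false

namespace Cfsg.Agent.H236

open Subgroup Cfsg Cfsg.Agent.BpLin Cfsg.Agent.BpCl QuadraticMap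
open Cfsg.Agent.ClassicalGeometry.SympBasic Cfsg.Agent.ClassicalGeometry.SympAutSemi
  Cfsg.Agent.ClassicalGeometry.SympGamma

universe u v

section PSp

variable {F : Type u} [Field F] [Finite F] {m r : ℕ} [Fact r.Prime] [CharP F r] {p : ℕ} [hp : Fact p.Prime]

theorem map_centralizer (Z : Matrix.symplecticGroup (Fin m) F) :
    (centralizer ({Z} : Set (Matrix.symplecticGroup (Fin m) F))).map (spLin m F) =
      Iso (fun u v => sympBilin m F u v) ⊓ CL F (spLin m F Z).toEquiv := by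
  ext h
  constructor
  · rintro ⟨A, hA, rfl⟩
    constructor
    · intro u v
      exact sympForm_rho A u v
    · intro v
      have h1 : A * Z = Z * A := mem_centralizer_singleton_iff.1 hA
      have h2 : spLin m F A * spLin m F Z = spLin m F Z * spLin m F A := by rw [← map_mul, h1, map_mul]
      exact LinearEquiv.congr_fun h2 v
  · rintro ⟨h1, h2⟩
    obtain ⟨A, hA⟩ := exists_rho_eq h.toEquiv (fun u v => map_add h u v) (fun a v => map_smul h a v)
      (fun u v => h1 u v)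
    have hAh : spLin m F A = h := by
      apply LinearEquiv.ext
      intro v
      rw [spLin_apply, hA]
      rfl
    refine ⟨A, ?_, hAh⟩
    refine mem_centralizer_singleton_iff.2 ?_
    apply spLin_injective
    rw [map_mul, map_mul, hAh]
    apply LinearEquiv.ext
    intro v
    exact h2 v

theorem ws_spLin {Z : Matrix.symplecticGroup (Fin m) F}
    (h : WS r ↥(centralizer ({Z} : Set (Matrix.symplecticGroup (Fin m) F)))) :
    WS r ↥(Iso (fun u v => sympBilin m F u v) ⊓ CL F (spLin m F Z).toEquiv) := by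
  rw [← map_centralizer]
  have := finite_subgroup (F := F) ((centralizer ({Z} : Set (Matrix.symplecticGroup (Fin m) F))).map (spLin m F))
  exact h.congr ((centralizer ({Z} : Set (Matrix.symplecticGroup (Fin m) F))).equivMapOfInjective _
    spLin_injective).symm

/-- **`PSp_2m(F)`, `p` odd.** -/
theorem psp_odd (hp2 : p ≠ 2) (hpF : (p : F) ≠ 0) {x y h z : PSp m F}
    (hx : x ^ p = 1) (hy : y ^ p = 1) (hz : z = x * y * x⁻¹ * y⁻¹) (hxz : x * z = z * x) (hyz : y * z = z * y)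
    (hhz : h * z = z * h) (h1 : h * x * h⁻¹ = x⁻¹) (h2 : h * y * h⁻¹ = y⁻¹) (hz1 : z ≠ 1)
    (hWS : WS r ↥(centralizer ({z} : Set (PSp m F)))) : p = 3 ∧ Nat.card F = 2 ∧ (m = 3 ∨ m = 4) := by
  obtain ⟨X, Y, Z, hZz, hXY, hXZ, hYZ, hZp⟩ := exists_lift (π := QuotientGroup.mk'
    (Subgroup.center (Matrix.symplecticGroup (Fin m) F))) (QuotientGroup.mk'_surjective _)
    (by rw [QuotientGroup.ker_mk']) (hp.out.odd_of_ne_two hp2) hx hy hz hxz hyz hhz h1 h2
  have h3 : WS r ↥(centralizer ({Z} : Set (Matrix.symplecticGroup (Fin m) F))) := by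
    refine ws_lift (π := QuotientGroup.mk' (Subgroup.center (Matrix.symplecticGroup (Fin m) F)))
      (by rw [QuotientGroup.ker_mk']) ?_
    rw [hZz]
    exact hWS
  have hfr : Module.finrank F (Fin m ⊕ Fin m → F) = 2 * m := by
    rw [Module.finrank_fintype_fun_eq_card, Fintype.card_sum, Fintype.card_fin]
    ring
  have h4 := sp_odd (r := r) hp.out hp2 hpF (B := sympBilin m F) (fun v => sympForm_self v)
    (fun u hu => eq_zero_of_forall_sympForm_right hu) (X := spLin m F X) (Y := spLin m F Y) (g := spLin m F Z)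
    (fun u v => sympForm_rho X u v) (fun u v => sympForm_rho Y u v) (fun u v => sympForm_rho Z u v)
    (by rw [← hXY, map_mul, map_mul, map_mul, map_inv, map_inv])
    (fun v => LinearEquiv.congr_fun (show spLin m F X * spLin m F Z = spLin m F Z * spLin m F X by
      rw [← map_mul, hXZ, map_mul]) v)
    (fun v => LinearEquiv.congr_fun (show spLin m F Y * spLin m F Z = spLin m F Z * spLin m F Y by
      rw [← map_mul, hYZ, map_mul]) v)
    (by rw [← map_pow, hZp, map_one])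
    (by
      intro h
      apply hz1
      rw [← hZz]
      have h4 : Z = 1 := spLin_injective (by rw [h, map_one])
      rw [h4, map_one]) (ws_spLin h3)
  rw [hfr] at h4
  refine ⟨h4.1, h4.2.1, ?_⟩
  omega

/-- **`PSp_2m(F)`, `p = 2`.** -/
theorem psp_two (hm : 2 ≤ m) (h2 : (2 : F) ≠ 0) {z : PSp m F} (hz : z ^ 2 = 1)
    (hWS : WS r ↥(centralizer ({z} : Set (PSp m F)))) : m = 2 ∧ Nat.card F ≤ 3 := by
  obtain ⟨Z, rfl⟩ := QuotientGroup.mk'_surjective (Subgroup.center (Matrix.symplecticGroup (Fin m) F)) z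
  have h3 : WS r ↥(centralizer ({Z} : Set (Matrix.symplecticGroup (Fin m) F))) :=
    ws_lift (π := QuotientGroup.mk' (Subgroup.center (Matrix.symplecticGroup (Fin m) F)))
      (by rw [QuotientGroup.ker_mk']) hWS
  have h4 : Z ^ 2 ∈ Subgroup.center (Matrix.symplecticGroup (Fin m) F) := by
    rw [← map_pow] at hz
    exact (QuotientGroup.eq_one_iff _).1 hz
  obtain ⟨a, ha⟩ := (LieClassical.SympCenter.mem_center_iff m _).1 h4
  have hfr : Module.finrank F (Fin m ⊕ Fin m → F) = 2 * m := by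
    rw [Module.finrank_fintype_fun_eq_card, Fintype.card_sum, Fintype.card_fin]
    ring
  have h5 := sp_two (r := r) h2 (B := sympBilin m F) (fun v => sympForm_self v)
    (fun u hu => eq_zero_of_forall_sympForm_right hu) (g := spLin m F Z) (fun u v => sympForm_rho Z u v) (a := a)
    (fun v => by
      have h6 : spLin m F Z (spLin m F Z v) = spLin m F (Z ^ 2) v := by
        rw [pow_two, map_mul]; rfl
      rw [h6]
      change ((Z ^ 2 : Matrix.symplecticGroup (Fin m) F) : Matrix (Fin m ⊕ Fin m) (Fin m ⊕ Fin m) F).mulVec v = _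
      rw [ha, Matrix.smul_mulVec, Matrix.one_mulVec]) (ws_spLin h3)
  rw [hfr] at h5
  omega

end PSp

section POmega

open Cfsg.Agent.LieClassical.OrthCore Cfsg.Agent.LieClassical.OrthTrans
  Cfsg.Agent.LieClassical.OrthForms Cfsg.Agent.ClassicalGeometry.OrthSemi Cfsg.Agent.ClassicalGeometry.OrthSemiForms

variable {F : Type u} {V : Type v} [Field F] [Finite F] [AddCommGroup V] [Module F V] [Module.Finite F V]
  {Q : QuadraticForm F V} {r : ℕ} [Fact r.Prime] [CharP F r] {p : ℕ} [hp : Fact p.Prime]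

theorem ws_E (hG : LieClassical.OrthTrans.Good Q) {Z : ↥(E Q)} (h : WS r ↥(centralizer ({Z} : Set ↥(E Q)))) :
    WS r ↥(Iso (fun u _ => Q u) ⊓ CL F (Z : V ≃ₗ[F] V).toEquiv) := by
  have hfin : Finite ↥(E Q) := finite_subgroup _
  have hfin1 := finite_subgroup (F := F) (Iso (fun u _ => Q u) ⊓ CL F (Z : V ≃ₗ[F] V).toEquiv)
  have hfin2 := finite_subgroup (F := F) (E Q ⊓ CL F (Z : V ≃ₗ[F] V).toEquiv)
  have h1 : (centralizer ({Z} : Set ↥(E Q))).map (E Q).subtype = E Q ⊓ CL F (Z : V ≃ₗ[F] V).toEquiv := by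
    ext h
    constructor
    · rintro ⟨k, hk, rfl⟩
      refine ⟨k.2, fun v => ?_⟩
      have h1 : k * Z = Z * k := mem_centralizer_singleton_iff.1 hk
      exact LinearEquiv.congr_fun (congrArg Subtype.val h1) v
    · rintro ⟨h1, h2⟩
      refine ⟨⟨h, h1⟩, mem_centralizer_singleton_iff.2 (Subtype.ext (LinearEquiv.ext fun v => h2 v)), rfl⟩
  have hfin3 := finite_subgroup (F := F) ((centralizer ({Z} : Set ↥(E Q))).map (E Q).subtype)
  have h2 : WS r ↥(E Q ⊓ CL F (Z : V ≃ₗ[F] V).toEquiv) := by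
    rw [← h1]
    exact h.congr ((centralizer ({Z} : Set ↥(E Q))).equivMapOfInjective _ (E Q).subtype_injective).symm
  have hle : E Q ⊓ CL F (Z : V ≃ₗ[F] V).toEquiv ≤ Iso (fun u _ => Q u) ⊓ CL F (Z : V ≃ₗ[F] V).toEquiv := by
    refine inf_le_inf_right _ ?_
    rw [Iso_eq_O]
    exact E_le_O
  refine WS.of_commutator_le (N := (E Q ⊓ CL F (Z : V ≃ₗ[F] V).toEquiv).subgroupOf
    (Iso (fun u _ => Q u) ⊓ CL F (Z : V ≃ₗ[F] V).toEquiv)) ?_ ?_
  · rw [Subgroup.commutator_le]
    intro a _ b _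
    rw [Subgroup.mem_subgroupOf]
    have ha : (a : V ≃ₗ[F] V) ∈ O Q := fun v => a.2.1 v v
    have hb : (b : V ≃ₗ[F] V) ∈ O Q := fun v => b.2.1 v v
    refine ⟨hG.commutator_le_E (Subgroup.commutator_mem_commutator ha hb), ?_⟩
    exact (CL F (Z : V ≃ₗ[F] V).toEquiv).mul_mem ((CL F (Z : V ≃ₗ[F] V).toEquiv).mul_mem
      ((CL F (Z : V ≃ₗ[F] V).toEquiv).mul_mem a.2.2 b.2.2) ((CL F (Z : V ≃ₗ[F] V).toEquiv).inv_mem a.2.2))
      ((CL F (Z : V ≃ₗ[F] V).toEquiv).inv_mem b.2.2)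
  · exact h2.congr (Subgroup.subgroupOfEquivOfLe hle)

/-- **`POmega(V)`, `p` odd.** -/
theorem omega_odd (hG : LieClassical.OrthTrans.Good Q) (hp2 : p ≠ 2) (hpF : (p : F) ≠ 0) {x y h z : ↥(E Q) ⧸ Subgroup.center ↥(E Q)}
    (hx : x ^ p = 1) (hy : y ^ p = 1) (hz : z = x * y * x⁻¹ * y⁻¹) (hxz : x * z = z * x) (hyz : y * z = z * y)
    (hhz : h * z = z * h) (h1 : h * x * h⁻¹ = x⁻¹) (h2 : h * y * h⁻¹ = y⁻¹) (hz1 : z ≠ 1)
    (hWS : WS r ↥(centralizer ({z} : Set (↥(E Q) ⧸ Subgroup.center ↥(E Q))))) :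
    p = 3 ∧ Nat.card F = 2 ∧ Module.finrank F V ≤ 10 := by
  have hfin : Finite ↥(E Q) := finite_subgroup _
  obtain ⟨X, Y, Z, hZz, hXY, hXZ, hYZ, hZp⟩ := exists_lift (π := QuotientGroup.mk'
    (Subgroup.center ↥(E Q))) (QuotientGroup.mk'_surjective _)
    (by rw [QuotientGroup.ker_mk']) (hp.out.odd_of_ne_two hp2) hx hy hz hxz hyz hhz h1 h2
  have h3 : WS r ↥(centralizer ({Z} : Set ↥(E Q))) := by
    refine ws_lift (π := QuotientGroup.mk' (Subgroup.center ↥(E Q)))
      (by rw [QuotientGroup.ker_mk']) ?_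
    rw [hZz]
    exact hWS
  have hO : ∀ (W : ↥(E Q)) (v : V), Q ((W : V ≃ₗ[F] V) v) = Q v := fun W v => E_le_O W.2 v
  have h4 := orth_odd (r := r) hp.out hp2 hpF hG.nondeg (X := (X : V ≃ₗ[F] V)) (Y := (Y : V ≃ₗ[F] V))
    (g := (Z : V ≃ₗ[F] V)) (hO X) (hO Y) (hO Z) (congrArg Subtype.val hXY)
    (fun v => LinearEquiv.congr_fun (congrArg Subtype.val hXZ) v)
    (fun v => LinearEquiv.congr_fun (congrArg Subtype.val hYZ) v)
    (by rw [← SubgroupClass.coe_pow, hZp]; rfl)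
    (by
      intro h
      apply hz1
      rw [← hZz]
      have h4 : Z = 1 := Subtype.ext h
      rw [h4, map_one]) (ws_E hG h3)
  exact ⟨h4.1, h4.2.1, h4.2.2.2.2⟩

/-- **`POmega(V)`, `p = 2`.** -/
theorem omega_two (hG : LieClassical.OrthTrans.Good Q) (h2 : (2 : F) ≠ 0) {z : ↥(E Q) ⧸ Subgroup.center ↥(E Q)} (hz : z ^ 2 = 1)
    (hWS : WS r ↥(centralizer ({z} : Set (↥(E Q) ⧸ Subgroup.center ↥(E Q))))) :
    Module.finrank F V ≤ 8 ∧ Nat.card F ≤ 3 := by
  have hfin : Finite ↥(E Q) := finite_subgroup _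
  obtain ⟨Z, rfl⟩ := QuotientGroup.mk'_surjective (Subgroup.center ↥(E Q)) z
  have h3 : WS r ↥(centralizer ({Z} : Set ↥(E Q))) :=
    ws_lift (π := QuotientGroup.mk' (Subgroup.center ↥(E Q))) (by rw [QuotientGroup.ker_mk']) hWS
  have h4 : Z ^ 2 ∈ Subgroup.center ↥(E Q) := by
    rw [← map_pow] at hz
    exact (QuotientGroup.eq_one_iff _).1 hz
  obtain ⟨a, ha⟩ := ClassicalGeometry.OrthAut1.center_scalar hG h4
  have h5 := orth_two (r := r) h2 hG.nondeg (g := (Z : V ≃ₗ[F] V)) (fun v => E_le_O Z.2 v) (a := a)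
    (fun v => by
      rw [← ha]
      rw [pow_two]
      rfl) (ws_E hG h3)
  have h6 := hG.dim
  omega

end POmega

end Cfsg.Agent.H236
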