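import Cfsg.Agent.H236.Cent

/-!
# `WS r` for the symplectic and orthogonal groups (helper236)

* `ws_bilin` : `WS r Sp(V)` implies `dim V ≤ 2`, and `|F| ≤ 3` if `dim V = 2`;
* `ws_O` : `WS r O(V)` implies `dim V ≤ 4`, and `|F| ≤ 3` if `dim V ≥ 3`.
-/

set_option autoImplicit false
set_option linter.unusedSectionVars false

namespace Cfsg.Agent.H236

open Subgroup Cfsg Cfsg.Agent.BpCl QuadraticMap
open Cfsg.Agent.LieClassical.OrthCore Cfsg.Agent.LieClassical.OrthTrans Cfsg.Agent.LieClassical.OrthSimple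
  Cfsg.Agent.ClassicalGeometry.SympBasic

/-- A perfect group generated by `r`-elements. -/
theorem not_ws_of_perfect {H : Type*} [Group H] [Finite H] [Nontrivial H] {r : ℕ} [Fact r.Prime]
    (hp : commutator H = ⊤) {s : Set H} (hs : Subgroup.closure s = ⊤) (hsr : ∀ x ∈ s, x ^ r = 1) : ¬ WS r H := by
  rintro ⟨n, hn⟩
  have h1 : ∀ n, derivedSeries H n = ⊤ := by
    intro n
    induction n with
    | zero => exact derivedSeries_zero H
    | succ n ih => rw [derivedSeries_succ, ih, ← commutator_def, hp]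
  rw [h1] at hn
  have h2 : RS r H := hn.congr (Subgroup.topEquiv (G := H)).symm
  have h3 : BpGate.Hp r H = ⊤ := by
    rw [eq_top_iff, ← hs, Subgroup.closure_le]
    intro x hx
    exact mem_Hp_of_pow (n := 1) (by rw [pow_one]; exact hsr x hx)
  have h4 : Group.IsSolvable ↥(BpGate.Hp r H) := h2
  rw [h3] at h4
  obtain ⟨m, hm⟩ : Group.IsSolvable H :=
    Group.isSolvable_of_surjective (f := (topEquiv : (⊤ : Subgroup H) ≃* H).toMonoidHom) topEquiv.surjective
  rw [h1] at hm
  exact top_ne_bot hm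

theorem isSolvable_of_le_center {H : Type*} [Group H] {N : Subgroup H} (h : N ≤ center H) : Group.IsSolvable ↥N :=
  Group.isSolvable_of_comm fun a b => Subtype.ext (Subgroup.mem_center_iff.1 (h b.2) a)

section Symp

variable {F : Type*} [Field F] [Finite F] {r : ℕ} [Fact r.Prime] [CharP F r]

theorem transv_pow {m : ℕ} (v : Fin m ⊕ Fin m → F) (c : F) (n : ℕ) : transv v c ^ n = transv v (n * c) := by
  induction n with
  | zero =>
    apply Subtype.ext
    rw [pow_zero, Nat.cast_zero, zero_mul, coe_transv, sympTransvection_zero]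
    rfl
  | succ n ih =>
    rw [pow_succ, ih]
    apply Subtype.ext
    rw [Submonoid.coe_mul, coe_transv, coe_transv, coe_transv, sympTransvection_mul]
    congr 1
    push_cast
    ring

/-- **`WS r` for the symplectic matrix group.** -/
theorem ws_symplectic {m : ℕ} (h : WS r ↥(Matrix.symplecticGroup (Fin m) F)) :
    m ≤ 1 ∧ (m = 1 → Nat.card F ≤ 3) := by
  have := Fintype.ofFinite F
  have hq : 2 ≤ Fintype.card F := Fintype.one_lt_card
  by_contra hne
  have hm1 : 1 ≤ m := by
    by_contra hm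
    apply hne
    exact ⟨by omega, fun h => by omega⟩
  by_cases hc : 3 ≤ m ∨ (m = 2 ∧ 3 ≤ Fintype.card F) ∨ 4 ≤ Fintype.card F
  · have hperf := LieClassical.SympPerfect.commutator_eq_top hc
    have hgen : transvGroup m F = ⊤ := Cfsg.Agent.S0765.result m
    have hnt : Nontrivial ↥(Matrix.symplecticGroup (Fin m) F) := by
      refine ⟨⟨transv (Pi.single (Sum.inl ⟨0, hm1⟩) 1) 1, 1, fun h => ?_⟩⟩
      have h1 := congrArg (fun A : ↥(Matrix.symplecticGroup (Fin m) F) =>
        (A : Matrix (Fin m ⊕ Fin m) (Fin m ⊕ Fin m) F).mulVec (Pi.single (Sum.inr ⟨0, hm1⟩) 1)) h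
      rw [coe_transv, sympTransvection_mulVec, Submonoid.coe_one, Matrix.one_mulVec, add_eq_left,
        sympForm_single_inr_left, Pi.single_eq_same] at h1
      have h2 := congrFun h1 (Sum.inl ⟨0, hm1⟩)
      simp at h2
    refine not_ws_of_perfect hperf hgen ?_ h
    rintro A ⟨w, c, hA⟩
    have hA' : A = transv w c := Subtype.ext hA
    subst hA'
    rw [transv_pow, CharP.cast_eq_zero, zero_mul]
    apply Subtype.ext
    rw [coe_transv, sympTransvection_zero]
    rfl
  push Not at hc
  obtain ⟨h1, h2, h3⟩ := hc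
  rcases Nat.lt_or_ge m 2 with hm | hm
  · apply hne
    refine ⟨by omega, fun _ => ?_⟩
    rw [Nat.card_eq_fintype_card]
    omega
  · have hm2 : m = 2 := by omega
    subst hm2
    have hq2 : Fintype.card F = 2 := by have := h2 rfl; omega
    obtain ⟨e⟩ := LieClassical.SpFourTwo.nonempty_equiv_perm hq2
    have hr : r = 2 := by
      have h4 : r ∣ Nat.card F := dvd_card_field
      rw [Nat.card_eq_fintype_card, hq2] at h4
      exact (Nat.prime_dvd_prime_iff_eq Fact.out Nat.prime_two).1 h4
    subst hr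
    have h4 : WS 2 (Equiv.Perm (Fin 6)) := h.congr e.symm
    have h5 : WS 2 ↥(alternatingGroup (Fin 6)) :=
      h4.of_injective (alternatingGroup (Fin 6)).subtype (Subgroup.subtype_injective _)
    have hs : IsSimpleGroup (alternatingGroup (Fin 6)) := alternatingGroup.isSimpleGroup (by simp)
    have hc : Nat.card ↥(alternatingGroup (Fin 6)) = 360 := by
      have := two_mul_nat_card_alternatingGroup (α := Fin 6)
      rw [Nat.card_eq_fintype_card (α := Equiv.Perm (Fin 6)), Fintype.card_perm, Fintype.card_fin] at this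
      have h6 : Nat.factorial 6 = 720 := rfl
      omega
    refine not_ws_of_surjective (B := ↥(alternatingGroup (Fin 6))) (not_solvable_of_sq Nat.prime_two ?_) ?_
      (MonoidHom.id _) Function.surjective_id h5
    · rw [hc]; norm_num
    · rw [hc]; norm_num

variable {V : Type*} [AddCommGroup V] [Module F V] [Module.Finite F V] {B : LinearMap.BilinForm F V}

/-- **`WS r` for `Sp(V)`.** -/
theorem ws_bilin (hA : B.IsAlt) (hnd : ∀ u, (∀ v, B u v = 0) → u = 0) (h : WS r ↥(Iso (fun u v => B u v))) :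
    Module.finrank F V ≤ 2 ∧ (Module.finrank F V ≠ 0 → Nat.card F ≤ 3) := by
  obtain ⟨k, e, he⟩ := exists_coords hA hnd
  obtain ⟨f⟩ := nonempty_symp e he
  have : Finite ↥(Iso (fun u v => B u v)) := Finite.of_equiv _ f.toEquiv
  have h1 := ws_symplectic (h.congr f)
  have h2 : Module.finrank F V = 2 * k := by
    rw [← e.finrank_eq]
    simp [two_mul]
  rw [h2]
  refine ⟨by omega, fun h3 => h1.2 (by omega)⟩

end Symp

section Orth

variable {F V : Type*} [Field F] [AddCommGroup V] [Module F V] {Q : QuadraticForm F V} {r : ℕ} [Fact r.Prime]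
  [Finite F] [CharP F r]

theorem siegel_pow {u w : V} (hu : Q u = 0) (hw : polar Q u w = 0) (n : ℕ) :
    ∃ hw' : polar Q u ((n : F) • w) = 0, siegel Q u w hu hw ^ n = siegel Q u ((n : F) • w) hu hw' := by
  have hw' : ∀ n : ℕ, polar Q u ((n : F) • w) = 0 := fun n => by rw [polar_smul_right, hw, smul_zero]
  refine ⟨hw' n, ?_⟩
  induction n with
  | zero =>
    rw [pow_zero]
    apply LinearEquiv.ext
    intro v
    rw [siegel_apply]
    simp
  | succ n ih =>
    rw [pow_succ, ih]
    have h2 : polar Q u ((n : F) • w + w) = 0 := by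
      rw [polar_add_right, hw' n, hw, add_zero]
    rw [siegel_mul hu (hw' n) hw h2]
    congr 1
    push_cast
    rw [add_smul, one_smul]

theorem not_ws_big [Module.Finite F V] (hQ : Nondeg Q) (hd : 5 ≤ Module.finrank F V) : ¬ WS r ↥(O Q) := by
  intro h
  have := finite_O Q
  have hG := LieClassical.OrthFinite.good_of_finite hQ hd
  have hle : E Q ≤ O Q := E_le_O
  have hfin : Finite ↥(E Q) := Finite.of_injective _ (Subgroup.inclusion_injective hle)
  obtain ⟨g, hg, hg1⟩ := good_E_ne_bot hG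
  have : Nontrivial ↥(E Q) := ⟨⟨⟨g, hg⟩, 1, fun h => hg1 (congrArg Subtype.val h)⟩⟩
  have hperf : commutator ↥(E Q) = ⊤ := by
    rw [← (Subgroup.map_injective (E Q).subtype_injective).eq_iff, commutator_def,
      Subgroup.map_commutator, ← MonoidHom.range_eq_map, Subgroup.range_subtype, hG.E_perfect]
  have hgen : Subgroup.closure {x : ↥(E Q) | (x : V ≃ₗ[F] V) ∈ siegelSet Q} = ⊤ := by
    apply Subgroup.map_injective (E Q).subtype_injective
    rw [MonoidHom.map_closure, ← MonoidHom.range_eq_map, Subgroup.range_subtype]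
    conv_rhs => rw [E]
    congr 1
    ext x
    constructor
    · rintro ⟨y, hy, rfl⟩
      exact hy
    · intro hx
      exact ⟨⟨x, Subgroup.subset_closure hx⟩, hx, rfl⟩
  refine not_ws_of_perfect hperf hgen ?_ (h.of_injective (Subgroup.inclusion hle) (Subgroup.inclusion_injective hle))
  rintro ⟨x, hx0⟩ ⟨u, w, hu, hw, hx⟩
  apply Subtype.ext
  have hx' : x = siegel Q u w hu hw := hx
  rw [SubgroupClass.coe_pow, OneMemClass.coe_one]
  change x ^ r = 1
  rw [hx']
  obtain ⟨hw', h1⟩ := siegel_pow hu hw r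
  rw [h1]
  apply LinearEquiv.ext
  intro v
  rw [siegel_apply]
  simp

omit [Finite F] in
theorem not_ws_three [Finite F] (h2 : (2 : F) ≠ 0) (h4 : 4 ≤ Nat.card F) :
    ¬ WS r ↥(Cfsg.isometryGroup F (Cfsg.quadFormOdd 1 F)) := by
  intro h
  have hF : ∃ a : F, a ≠ 0 ∧ a ≠ 1 := by
    refine ⟨-1, neg_ne_zero.2 one_ne_zero, fun h => h2 ?_⟩
    linear_combination -h
  have h5 : WS r ↥(Cfsg.Omega F (Cfsg.quadFormOdd 1 F)) := h.of_injective _ (Subgroup.subtype_injective _)
  refine not_ws_sl (F := F) (r := r) (n := 2) le_rfl (fun _ => h4)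
    (h5.of_hom (LieClassical.OrthThreeOmega.psiOmega hF) (isSolvable_of_le_center ?_))
  rw [← LieClassical.OrthThreeOmega.ker_eq hF h2]
  intro s hs
  rw [MonoidHom.mem_ker, MonoidHom.comp_apply, MonoidHom.mem_ker.1 hs, map_one]

theorem not_ws_four_plus (h4 : 4 ≤ Nat.card F) : ¬ WS r ↥(Cfsg.isometryGroup F (Cfsg.quadFormPlus 2 F)) := by
  intro h
  obtain ⟨ε⟩ := LieClassical.OrthFourCommon.exists_isometryGroup_equiv (LieClassical.OrthFourPlus.coord F)
    (Cfsg.quadFormPlus 2 F) (LieClassical.OrthFourPlus.dt F) LieClassical.OrthFourPlus.coord_det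
  have : Finite ↥(LieClassical.OrthFourCommon.isom (LieClassical.OrthFourPlus.dt F)) := Finite.of_equiv _ ε.toEquiv
  have h5 := h.congr ε.symm
  have h6 : WS r (Matrix.SpecialLinearGroup (Fin 2) F × Matrix.SpecialLinearGroup (Fin 2) F) := by
    refine h5.of_hom LieClassical.OrthFourPlus.phi (isSolvable_of_le_center ?_)
    intro s hs
    have hs1 : LieClassical.OrthFourPlus.phi s = 1 := hs
    have h1 := LieClassical.OrthFourPlus.fst_eq_snd_of_phi_eq_one hs1
    -- `s.1` commutes with every matrix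
    have h2 : ∀ X : Matrix (Fin 2) (Fin 2) F, (s.1 : Matrix (Fin 2) (Fin 2) F) * X = X * s.1 := by
      intro X
      have h3 : (LieClassical.OrthFourPlus.phi s).1 X = X := by rw [hs1]; rfl
      change ((s.1.toGL : GL (Fin 2) F) : Matrix (Fin 2) (Fin 2) F) * X *
        ((s.2.toGL⁻¹ : GL (Fin 2) F) : Matrix (Fin 2) (Fin 2) F) = X at h3
      have h4 : ((s.1.toGL : GL (Fin 2) F) : Matrix (Fin 2) (Fin 2) F) * X =
          X * ((s.2.toGL : GL (Fin 2) F) : Matrix (Fin 2) (Fin 2) F) := by
        conv_rhs => rw [← h3]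
        rw [mul_assoc, mul_assoc, Units.inv_mul, mul_one]
      rw [← h1] at h4
      exact h4
    have h3 : ∀ t : Matrix.SpecialLinearGroup (Fin 2) F, s.1 * t = t * s.1 := fun t => Subtype.ext (h2 t)
    rw [Subgroup.mem_center_iff]
    intro t
    refine Prod.ext ?_ ?_
    · exact (h3 t.1).symm
    · change t.2 * s.2 = s.2 * t.2
      rw [← h1]
      exact (h3 t.2).symm
  exact not_ws_sl (F := F) (r := r) (n := 2) le_rfl (fun _ => h4)
    (h6.of_injective (MonoidHom.inl _ _) (fun a b hab => congrArg Prod.fst hab))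

theorem not_ws_four_minus {a b : F} (hab : GenOrth.Aniso a b) :
    ¬ WS r ↥(Cfsg.isometryGroup F (Cfsg.quadFormMinus 1 F a b)) := by
  intro h
  have : Fact (∀ r : F, r ^ 2 ≠ -b + a * r) := ⟨fun r hr => by
    have := (hab (-r) 1 (by linear_combination hr)).2
    exact one_ne_zero this⟩
  have hfin : Finite (LieClassical.OrthFourMinus.E F (-b) a) := Finite.of_equiv _ (QuadraticAlgebra.equivProd (-b) a).symm
  obtain ⟨ε⟩ := LieClassical.OrthFourCommon.exists_isometryGroup_equiv (LieClassical.OrthFourMinus.coord F (-b) a)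
    (Cfsg.quadFormMinus 1 F a b) (LieClassical.OrthFourMinus.Q (-b) a) (LieClassical.OrthFourMinus.Q_coord a b)
  have : Finite ↥(LieClassical.OrthFourCommon.isom (LieClassical.OrthFourMinus.Q (-b) a)) :=
    Finite.of_equiv _ ε.toEquiv
  have hch : CharP (LieClassical.OrthFourMinus.E F (-b) a) r :=
    (RingHom.charP_iff (algebraMap F (LieClassical.OrthFourMinus.E F (-b) a))
      (algebraMap F (LieClassical.OrthFourMinus.E F (-b) a)).injective r).1 inferInstance
  have h5 := h.congr ε.symm
  refine not_ws_sl (F := LieClassical.OrthFourMinus.E F (-b) a) (r := r) (n := 2) le_rfl (fun _ => ?_)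
    (h5.of_hom LieClassical.OrthFourMinus.phi (isSolvable_of_le_center ?_))
  · have h6 : Nat.card (LieClassical.OrthFourMinus.E F (-b) a) = Nat.card F * Nat.card F := by
      rw [← Nat.card_prod]
      exact Nat.card_congr (QuadraticAlgebra.equivProd (-b) a)
    have h7 : 2 ≤ Nat.card F := Finite.one_lt_card
    rw [h6]
    nlinarith
  · intro s hs
    exact LieClassical.OrthFourMinus.mem_center_of_phi_eq_one hs

/-- **`WS r` for `O(V)`.** -/
theorem ws_O [Module.Finite F V] (hQ : Nondeg Q) (h : WS r ↥(O Q)) :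
    Module.finrank F V ≤ 4 ∧ (3 ≤ Module.finrank F V → Nat.card F ≤ 3) ∧
      (Module.finrank F V = 4 → GenOrth.Sim Q (Cfsg.quadFormPlus 2 F)) := by
  have hfin := finite_O Q
  have h5 : Module.finrank F V ≤ 4 := by
    by_contra h5
    exact not_ws_big hQ (by omega) h
  refine ⟨h5, ?_⟩
  rcases Nat.lt_or_ge (Module.finrank F V) 3 with h3 | h3
  · exact ⟨fun h4 => by omega, fun h4 => by omega⟩
  have hN := GenOrth.normal_form (Module.finrank F V) hQ rfl
  have h34 : Module.finrank F V = 3 ∨ Module.finrank F V = 4 := by omega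
  rcases h34 with hn | hn
  · rw [hn] at hN ⊢
    refine ⟨fun _ => ?_, fun h => by omega⟩
    by_contra hc
    rcases hN with ⟨k, hk, hs⟩ | ⟨k, hk, -⟩ | ⟨k, hk, -⟩
    · have hk1 : k = 1 := by omega
      subst hk1
      obtain ⟨e⟩ := nonempty_of_sim hs
      have hf2 : Finite ↥(Cfsg.isometryGroup F (Cfsg.quadFormOdd 1 F)) := Finite.of_equiv _ e.symm.toEquiv
      exact not_ws_three (r := r) (two_ne_zero_of_odd hQ hs) (by omega) (h.congr e)
    · omega
    · omega
  · rw [hn] at hN ⊢
    rcases hN with ⟨k, hk, -⟩ | ⟨k, hk, hs⟩ | ⟨k, hk, a, b, hab, hs⟩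
    · omega
    · have hk1 : k = 2 := by omega
      subst hk1
      refine ⟨fun _ => ?_, fun _ => hs⟩
      by_contra hc
      obtain ⟨e⟩ := nonempty_of_sim hs
      have hf2 : Finite ↥(Cfsg.isometryGroup F (Cfsg.quadFormPlus 2 F)) := Finite.of_equiv _ e.symm.toEquiv
      exact not_ws_four_plus (r := r) (by omega) (h.congr e)
    · exfalso
      have hk1 : k = 1 := by omega
      subst hk1
      obtain ⟨e⟩ := nonempty_of_sim hs
      have hf2 : Finite ↥(Cfsg.isometryGroup F (Cfsg.quadFormMinus 1 F a b)) := Finite.of_equiv _ e.symm.toEquiv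
      exact not_ws_four_minus (r := r) hab (h.congr e)

end Orth

end Cfsg.Agent.H236
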