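import Cfsg.Agent.H236.Forms

/-!
# Isometries commuting with a semisimple isometry (helper236)

* `exists_isoU` : the isometries commuting with `g` are the unitary elements of `Cent g`;
* `ws_left`, `ws_right` : restriction to the summands of an orthogonal decomposition.
-/

set_option autoImplicit false
set_option linter.unusedSectionVars false

namespace Cfsg.Agent.H236

open Subgroup Cfsg Cfsg.Agent.BpLin Cfsg.Agent.BpCl Cfsg.Agent.BpCl.Free QuadraticMap
open Cfsg.Agent.LieClassical.OrthCore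

universe u v

section IsoU

variable {F : Type u} {V : Type v} [Field F] [Finite F] [AddCommGroup V] [Module F V] [Module.Finite F V]

theorem exists_isoU (B : LinearMap.BilinForm F V) (ε : F) (hε : ε * ε = 1)
    (hB : ∀ u v, B u v = ε * B v u) (hnd : ∀ u, (∀ v, B u v = 0) → u = 0) (g : V ≃ₗ[F] V)
    (hg : ∀ u v, B (g u) (g v) = B u v) :
    ∃ φ : ↥(inv hnd hε hB hg).U ≃* ↥(Iso (fun u v => B u v) ⊓ CL F g.toEquiv), ∀ w v, (φ w).1 v =
      ((w.1 : (↥(Cent (g : Module.End F V)))ˣ) : ↥(Cent (g : Module.End F V))).1 v := by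
  have hVf : Finite V := Module.finite_of_finite F
  have hEf : Finite (Module.End F V) := Finite.of_injective (fun h : Module.End F V => (h : V → V)) DFunLike.coe_injective
  set s := inv hnd hε hB hg with hs
  let f : ↥s.U →* (V ≃ₗ[F] V) :=
    { toFun := fun w =>
        { toFun := fun v => (w.1 : ↥(Cent (g : Module.End F V))).1 v
          invFun := fun v => ((w.1⁻¹ : (↥(Cent (g : Module.End F V)))ˣ) : ↥(Cent (g : Module.End F V))).1 v
          map_add' := map_add _
          map_smul' := map_smul _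
          left_inv := fun v => by
            have h1 : (((w.1⁻¹ * w.1 : (↥(Cent (g : Module.End F V)))ˣ)) : ↥(Cent (g : Module.End F V))) = 1 := by
              rw [inv_mul_cancel]; rfl
            exact LinearMap.congr_fun (congrArg Subtype.val h1) v
          right_inv := fun v => by
            have h1 : (((w.1 * w.1⁻¹ : (↥(Cent (g : Module.End F V)))ˣ)) : ↥(Cent (g : Module.End F V))) = 1 := by
              rw [mul_inv_cancel]; rfl
            exact LinearMap.congr_fun (congrArg Subtype.val h1) v }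
      map_one' := rfl
      map_mul' := fun _ _ => rfl }
  have hf : ∀ (w : ↥s.U) (v : V), f w v = ((w.1 : (↥(Cent (g : Module.End F V)))ˣ) : ↥(Cent (g : Module.End F V))).1 v :=
    fun _ _ => rfl
  have hfi : Function.Injective f := by
    intro w w' h
    apply Subtype.ext
    apply Units.ext
    apply Subtype.ext
    apply LinearMap.ext
    intro v
    exact LinearEquiv.congr_fun h v
  have hfr : f.range = Iso (fun u v => B u v) ⊓ CL F g.toEquiv := by
    ext h
    constructor
    · rintro ⟨w, rfl⟩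
      have hw : ((w.1 : (↥(Cent (g : Module.End F V)))ˣ) : ↥(Cent (g : Module.End F V))) *
          s ((w.1 : (↥(Cent (g : Module.End F V)))ˣ) : ↥(Cent (g : Module.End F V))) = 1 := w.2
      have hw' : s ((w.1 : (↥(Cent (g : Module.End F V)))ˣ) : ↥(Cent (g : Module.End F V))) *
          ((w.1 : (↥(Cent (g : Module.End F V)))ˣ) : ↥(Cent (g : Module.End F V))) = 1 := mul_eq_one_comm.1 hw
      constructor
      · intro u v
        change B (f w u) (f w v) = B u v
        have h1 := LinearMap.congr_fun (congrArg Subtype.val hw') u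
        change adj hnd ((w.1 : (↥(Cent (g : Module.End F V)))ˣ) : ↥(Cent (g : Module.End F V))).1 (f w u) = u at h1
        rw [hf w v, ← adj_spec hnd, h1]
      · intro v
        exact (mem_Cent.1 ((w.1 : (↥(Cent (g : Module.End F V)))ˣ) : ↥(Cent (g : Module.End F V))).2 v).symm
    · rintro ⟨h1, h2⟩
      have hm : (h : Module.End F V) ∈ Cent (g : Module.End F V) := mem_Cent.2 fun v => (h2 v).symm
      obtain ⟨w, hw⟩ := exists_mem_U s (v := (⟨(h : Module.End F V), hm⟩ : ↥(Cent (g : Module.End F V)))) (by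
        apply mul_eq_one_comm.1
        apply Subtype.ext
        apply LinearMap.ext
        intro u
        change adj hnd (h : Module.End F V) (h u) = u
        rw [← sub_eq_zero]
        apply hnd
        intro v
        rw [map_sub, LinearMap.sub_apply, adj_spec]
        change B (h u) (h v) - B u v = 0
        have h3 : B (h u) (h v) = B u v := h1 u v
        rw [h3, sub_self])
      refine ⟨w, ?_⟩
      apply LinearEquiv.ext
      intro v
      rw [hf, hw]
      rfl
  refine ⟨(MonoidHom.ofInjective hfi).trans (MulEquiv.subgroupCongr hfr), fun w v => rfl⟩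

end IsoU

section Glue

variable {F : Type u} {V : Type v} [Field F] [Finite F] [AddCommGroup V] [Module F V] [Module.Finite F V]
  {r : ℕ} [Fact r.Prime]

/-- the glueing homomorphism -/
noncomputable def glue {W0 W1 : Submodule F V} (hc : IsCompl W0 W1) :
    (W0 ≃ₗ[F] W0) × (W1 ≃ₗ[F] W1) →* (V ≃ₗ[F] V) where
  toFun T := ((Submodule.prodEquivOfIsCompl W0 W1 hc).symm.trans (T.1.prodCongr T.2)).trans
    (Submodule.prodEquivOfIsCompl W0 W1 hc)
  map_one' := by
    apply LinearEquiv.ext
    intro v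
    exact (Submodule.prodEquivOfIsCompl W0 W1 hc).apply_symm_apply v
  map_mul' S T := by
    apply LinearEquiv.ext
    intro v
    change Submodule.prodEquivOfIsCompl W0 W1 hc (((S * T).1.prodCongr (S * T).2)
        ((Submodule.prodEquivOfIsCompl W0 W1 hc).symm v)) =
      Submodule.prodEquivOfIsCompl W0 W1 hc ((S.1.prodCongr S.2) ((Submodule.prodEquivOfIsCompl W0 W1 hc).symm
        (Submodule.prodEquivOfIsCompl W0 W1 hc ((T.1.prodCongr T.2) ((Submodule.prodEquivOfIsCompl W0 W1 hc).symm v)))))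
    rw [LinearEquiv.symm_apply_apply]
    rfl

theorem glue_apply {W0 W1 : Submodule F V} (hc : IsCompl W0 W1) (T : (W0 ≃ₗ[F] W0) × (W1 ≃ₗ[F] W1)) (w0 : W0)
    (w1 : W1) : glue hc T (w0 + w1) = T.1 w0 + T.2 w1 := by
  have h1 : ((w0 : V) + w1) = Submodule.prodEquivOfIsCompl W0 W1 hc (w0, w1) := by
    rw [Submodule.coe_prodEquivOfIsCompl']
  rw [h1]
  change Submodule.prodEquivOfIsCompl W0 W1 hc ((T.1.prodCongr T.2) ((Submodule.prodEquivOfIsCompl W0 W1 hc).symm
    (Submodule.prodEquivOfIsCompl W0 W1 hc (w0, w1)))) = _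
  rw [LinearEquiv.symm_apply_apply, Submodule.coe_prodEquivOfIsCompl']
  rfl

theorem glue_injective {W0 W1 : Submodule F V} (hc : IsCompl W0 W1) : Function.Injective (glue hc) := by
  intro S T h
  refine Prod.ext ?_ ?_
  · apply LinearEquiv.ext
    intro w
    apply Subtype.ext
    have h1 := glue_apply hc S w 0
    have h2 := glue_apply hc T w 0
    rw [h, h2, map_zero, map_zero, Submodule.coe_zero, add_zero, add_zero] at h1
    exact h1.symm
  · apply LinearEquiv.ext
    intro w
    apply Subtype.ext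
    have h1 := glue_apply hc S 0 w
    have h2 := glue_apply hc T 0 w
    rw [h, h2, map_zero, map_zero, Submodule.coe_zero, zero_add, zero_add] at h1
    exact h1.symm

/-- **Restriction to the first summand**, on which `g` is a scalar. -/
theorem ws_left {f : V → V → F} {W0 W1 : Submodule F V} (hc : IsCompl W0 W1)
    (hsum : ∀ u0 v0 : W0, ∀ u1 v1 : W1, f ((u0 : V) + u1) ((v0 : V) + v1) = f u0 v0 + f u1 v1)
    {g : Equiv.Perm V} (hadd : ∀ u v, g (u + v) = g u + g v) {c : F} (hg0 : ∀ v ∈ W0, g v = c • v)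
    (hg1 : ∀ v ∈ W1, g v ∈ W1) (h : WS r ↥(Iso f ⊓ CL F g)) : WS r ↥(Iso (fun u v : W0 => f u v)) := by
  have hf0 := finite_subgroup (F := F) (Iso (fun u v : W0 => f u v))
  have hf1 := finite_subgroup (F := F) (Iso f ⊓ CL F g)
  have hm : ∀ T : ↥(Iso (fun u v : W0 => f u v)), glue hc ((T : W0 ≃ₗ[F] W0), 1) ∈ Iso f ⊓ CL F g := by
    intro T
    constructor
    · intro u v
      obtain ⟨u0, u1, rfl⟩ := exists_sum hc u
      obtain ⟨v0, v1, rfl⟩ := exists_sum hc v
      rw [glue_apply, glue_apply, hsum, hsum]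
      have e0 := T.2 u0 v0
      dsimp only at e0
      rw [e0]
      rfl
    · intro v
      obtain ⟨v0, v1, rfl⟩ := exists_sum hc v
      have e1 : g (v1 : V) = (⟨g v1, hg1 _ v1.2⟩ : W1) := rfl
      have e2 : c • (v0 : V) = ((c • v0 : W0) : V) := rfl
      rw [hadd, hg0 _ v0.2, e1, e2, glue_apply, glue_apply, hadd, hg0 _ (T.1 v0).2, map_smul]
      rfl
  let φ : ↥(Iso (fun u v : W0 => f u v)) →* ↥(Iso f ⊓ CL F g) :=
    ((glue hc).comp ((MonoidHom.inl _ _).comp (Iso (fun u v : W0 => f u v)).subtype)).codRestrict _ hm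
  refine h.of_injective φ fun S T hST => ?_
  have h1 : glue hc ((S : W0 ≃ₗ[F] W0), 1) = glue hc ((T : W0 ≃ₗ[F] W0), 1) := congrArg Subtype.val hST
  exact Subtype.ext (congrArg Prod.fst (glue_injective hc h1))

/-- **Restriction to the second summand.** -/
theorem ws_right {f : V → V → F} {W0 W1 : Submodule F V} (hc : IsCompl W0 W1)
    (hsum : ∀ u0 v0 : W0, ∀ u1 v1 : W1, f ((u0 : V) + u1) ((v0 : V) + v1) = f u0 v0 + f u1 v1)
    {g : Equiv.Perm V} (hadd : ∀ u v, g (u + v) = g u + g v) (hg0 : ∀ v ∈ W0, g v ∈ W0)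
    (hg1 : ∀ v ∈ W1, g v ∈ W1) (hg1' : ∀ v ∈ W1, g.symm v ∈ W1) (h : WS r ↥(Iso f ⊓ CL F g)) :
    WS r ↥(Iso (fun u v : W1 => f u v) ⊓ CL F (permW g W1 hg1 hg1')) := by
  have hf0 := finite_subgroup (F := F) (Iso (fun u v : W1 => f u v) ⊓ CL F (permW g W1 hg1 hg1'))
  have hf1 := finite_subgroup (F := F) (Iso f ⊓ CL F g)
  have hm : ∀ T : ↥(Iso (fun u v : W1 => f u v) ⊓ CL F (permW g W1 hg1 hg1')),
      glue hc (1, (T : W1 ≃ₗ[F] W1)) ∈ Iso f ⊓ CL F g := by
    intro T
    constructor
    · intro u v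
      obtain ⟨u0, u1, rfl⟩ := exists_sum hc u
      obtain ⟨v0, v1, rfl⟩ := exists_sum hc v
      rw [glue_apply, glue_apply, hsum, hsum]
      have e0 := T.2.1 u1 v1
      dsimp only at e0
      rw [e0]
      rfl
    · intro v
      obtain ⟨v0, v1, rfl⟩ := exists_sum hc v
      have e1 : (T.1 (permW g W1 hg1 hg1' v1) : V) = g (T.1 v1) := congrArg Subtype.val (T.2.2 v1)
      have e2 : g (v1 : V) = (permW g W1 hg1 hg1' v1 : V) := rfl
      have e3 : g (v0 : V) = (⟨g v0, hg0 _ v0.2⟩ : W0) := rfl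
      rw [hadd, e2, e3, glue_apply, glue_apply, e1, hadd]
      rfl
  let φ : ↥(Iso (fun u v : W1 => f u v) ⊓ CL F (permW g W1 hg1 hg1')) →* ↥(Iso f ⊓ CL F g) :=
    ((glue hc).comp ((MonoidHom.inr _ _).comp
      (Iso (fun u v : W1 => f u v) ⊓ CL F (permW g W1 hg1 hg1')).subtype)).codRestrict _ hm
  refine h.of_injective φ fun S T hST => ?_
  have h1 : glue hc (1, (S : W1 ≃ₗ[F] W1)) = glue hc (1, (T : W1 ≃ₗ[F] W1)) := congrArg Subtype.val hST
  exact Subtype.ext (congrArg Prod.snd (glue_injective hc h1))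

end Glue

end Cfsg.Agent.H236
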