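import Cfsg.Agent.H236.OddB

/-!
# Lifting to a central extension (helper236)

* `exists_lift` : `z = [x, y]`, `h` inverting `x` and `y`: lifts `Z = [X, Y]` commuting with `X` and `Y`, `Z ^ p = 1`;
* `ws_lift` : `WS r` for the centralizer passes to the centralizer of the lift.
-/

set_option autoImplicit false
set_option linter.unusedSectionVars false

namespace Cfsg.Agent.H236

open Subgroup

universe u v

section Lift

variable {G : Type u} {K : Type v} [Group G] [Group K] {π : G →* K} {p : ℕ}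

theorem conj_pow_eq {X Z c : G} (hc : c ∈ center G) (h : X * Z * X⁻¹ = c * Z) (n : ℕ) :
    X ^ n * Z * (X ^ n)⁻¹ = c ^ n * Z := by
  have hcc : ∀ g, g * c = c * g := Subgroup.mem_center_iff.1 hc
  induction n with
  | zero => simp
  | succ n ih =>
    have hcn : X * c ^ n = c ^ n * X := (Commute.pow_right (show Commute X c from hcc X) n).eq
    calc X ^ (n + 1) * Z * (X ^ (n + 1))⁻¹ = X * (X ^ n * Z * (X ^ n)⁻¹) * X⁻¹ := by
          rw [pow_succ']; group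
      _ = X * c ^ n * Z * X⁻¹ := by rw [ih]; group
      _ = c ^ n * (X * Z * X⁻¹) := by rw [hcn]; group
      _ = c ^ (n + 1) * Z := by rw [h, pow_succ]; group

theorem eq_one_of_pow {c : G} {p : ℕ} (hp2 : Odd p) (h1 : c ^ 2 = 1) (h2 : c ^ p = 1) : c = 1 := by
  obtain ⟨k, rfl⟩ := hp2
  rw [pow_succ, pow_mul, h1, one_pow, one_mul] at h2
  exact h2

theorem comm_of_inv (hk : π.ker ≤ center G) (hp2 : Odd p) {X Z H : G} (hx : π X ^ p = 1)
    (hxz : π X * π Z = π Z * π X) (hhz : π H * π Z = π Z * π H) (h1 : π H * π X * (π H)⁻¹ = (π X)⁻¹) :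
    X * Z = Z * X := by
  obtain ⟨c, hc, hcZ⟩ : ∃ c ∈ center G, X * Z * X⁻¹ = c * Z := by
    refine ⟨X * Z * X⁻¹ * Z⁻¹, hk ?_, by group⟩
    rw [MonoidHom.mem_ker, map_mul, map_mul, map_mul, map_inv, map_inv, hxz]
    group
  obtain ⟨κ, hκ, hκZ⟩ : ∃ c ∈ center G, H * Z * H⁻¹ = c * Z := by
    refine ⟨H * Z * H⁻¹ * Z⁻¹, hk ?_, by group⟩
    rw [MonoidHom.mem_ker, map_mul, map_mul, map_mul, map_inv, map_inv, hhz]
    group
  obtain ⟨μ, hμ, hμX⟩ : ∃ c ∈ center G, H * X * H⁻¹ = c * X⁻¹ := by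
    refine ⟨H * X * H⁻¹ * X, hk ?_, by group⟩
    rw [MonoidHom.mem_ker, map_mul, map_mul, map_mul, map_inv, h1]
    group
  have hcc : ∀ g, g * c = c * g := Subgroup.mem_center_iff.1 hc
  have hκκ : ∀ g, g * κ = κ * g := Subgroup.mem_center_iff.1 hκ
  have hμμ : ∀ g, g * μ = μ * g := Subgroup.mem_center_iff.1 hμ
  have hp1 : c ^ p = 1 := by
    have h2 := conj_pow_eq hc hcZ p
    have h3 : X ^ p ∈ center G := hk (by rw [MonoidHom.mem_ker, map_pow, hx])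
    have h4 : X ^ p * Z * (X ^ p)⁻¹ = Z := by
      rw [← Subgroup.mem_center_iff.1 h3 Z]; group
    rw [h4] at h2
    exact (mul_eq_right.1 h2.symm)
  have h2 : c ^ 2 = 1 := by
    -- conjugate by `H`
    have e1 : H * (X * Z * X⁻¹) * H⁻¹ = (H * X * H⁻¹) * (H * Z * H⁻¹) * (H * X * H⁻¹)⁻¹ := by group
    have e2 : H * (c * Z) * H⁻¹ = c * (H * Z * H⁻¹) := by
      rw [← mul_assoc, hcc]; group
    rw [hcZ, e2, hκZ, hμX] at e1
    have e3 : μ * X⁻¹ * (κ * Z) * (μ * X⁻¹)⁻¹ = κ * (X⁻¹ * Z * X) := by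
      calc μ * X⁻¹ * (κ * Z) * (μ * X⁻¹)⁻¹ = μ * (X⁻¹ * κ) * Z * X * μ⁻¹ := by group
        _ = μ * (κ * X⁻¹ * Z * X) * μ⁻¹ := by rw [hκκ]; group
        _ = (κ * X⁻¹ * Z * X) * μ * μ⁻¹ := by rw [← hμμ]
        _ = κ * (X⁻¹ * Z * X) := by group
    rw [e3] at e1
    have e4 : c * Z = X⁻¹ * Z * X := by
      have e5 : c * (κ * Z) = κ * (c * Z) := by rw [← mul_assoc, ← hcc κ, mul_assoc]
      rw [e5] at e1
      exact mul_left_cancel e1
    have e6 : Z = c * (X * Z * X⁻¹) := by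
      calc Z = X * (X⁻¹ * Z * X) * X⁻¹ := by group
        _ = X * c * Z * X⁻¹ := by rw [← e4]; group
        _ = c * (X * Z * X⁻¹) := by rw [hcc]; group
    rw [hcZ, ← mul_assoc] at e6
    rw [pow_two]
    exact mul_eq_right.1 e6.symm
  have h3 := eq_one_of_pow hp2 h2 hp1
  rw [h3, one_mul] at hcZ
  calc X * Z = X * Z * X⁻¹ * X := by group
    _ = Z * X := by rw [hcZ]

/-- **Lifting a commutator.** -/
theorem exists_lift (hπ : Function.Surjective π) (hk : π.ker ≤ center G) (hp2 : Odd p) {x y h z : K}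
    (hx : x ^ p = 1) (hy : y ^ p = 1) (hz : z = x * y * x⁻¹ * y⁻¹) (hxz : x * z = z * x) (hyz : y * z = z * y)
    (hhz : h * z = z * h) (h1 : h * x * h⁻¹ = x⁻¹) (h2 : h * y * h⁻¹ = y⁻¹) :
    ∃ X Y Z : G, π Z = z ∧ X * Y * X⁻¹ * Y⁻¹ = Z ∧ X * Z = Z * X ∧ Y * Z = Z * Y ∧ Z ^ p = 1 := by
  obtain ⟨X, rfl⟩ := hπ x
  obtain ⟨Y, rfl⟩ := hπ y
  obtain ⟨H, rfl⟩ := hπ h
  have hZ : π (X * Y * X⁻¹ * Y⁻¹) = z := by
    rw [map_mul, map_mul, map_mul, map_inv, map_inv, hz]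
  have hXZ : X * (X * Y * X⁻¹ * Y⁻¹) = (X * Y * X⁻¹ * Y⁻¹) * X :=
    comm_of_inv hk hp2 hx (by rw [hZ]; exact hxz) (by rw [hZ]; exact hhz) h1
  have hYZ : Y * (X * Y * X⁻¹ * Y⁻¹) = (X * Y * X⁻¹ * Y⁻¹) * Y :=
    comm_of_inv hk hp2 hy (by rw [hZ]; exact hyz) (by rw [hZ]; exact hhz) h2
  refine ⟨X, Y, X * Y * X⁻¹ * Y⁻¹, hZ, rfl, hXZ, hYZ, ?_⟩
  have h3 : ∀ n : ℕ, X ^ n * Y * (X ^ n)⁻¹ = (X * Y * X⁻¹ * Y⁻¹) ^ n * Y := by
    intro n
    induction n with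
    | zero => simp
    | succ n ih =>
      have h4 : X * (X * Y * X⁻¹ * Y⁻¹) ^ n = (X * Y * X⁻¹ * Y⁻¹) ^ n * X := (Commute.pow_right (show Commute X _ from hXZ) n).eq
      calc X ^ (n + 1) * Y * (X ^ (n + 1))⁻¹ = X * (X ^ n * Y * (X ^ n)⁻¹) * X⁻¹ := by rw [pow_succ']; group
        _ = X * (X * Y * X⁻¹ * Y⁻¹) ^ n * Y * X⁻¹ := by rw [ih]; group
        _ = (X * Y * X⁻¹ * Y⁻¹) ^ n * (X * Y * X⁻¹ * Y⁻¹) * Y := by rw [h4]; group
        _ = (X * Y * X⁻¹ * Y⁻¹) ^ (n + 1) * Y := by rw [pow_succ]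
  have h5 : X ^ p ∈ center G := hk (by rw [MonoidHom.mem_ker, map_pow, hx])
  have h6 : X ^ p * Y * (X ^ p)⁻¹ = Y := by
    rw [← Subgroup.mem_center_iff.1 h5 Y]; group
  have h7 := h3 p
  rw [h6] at h7
  exact mul_eq_right.1 h7.symm

/-- **The centralizer of the lift.** -/
theorem ws_lift [Finite G] [Finite K] {r : ℕ} [Fact r.Prime] (hk : π.ker ≤ center G) {Z : G}
    (h : WS r ↥(centralizer ({π Z} : Set K))) : WS r ↥(centralizer ({Z} : Set G)) := by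
  let f : ↥(centralizer ({Z} : Set G)) →* ↥(centralizer ({π Z} : Set K)) :=
    (π.comp (centralizer ({Z} : Set G)).subtype).codRestrict _ fun g => by
      have h1 := mem_centralizer_singleton_iff.1 g.2
      rw [mem_centralizer_singleton_iff]
      change π g * π Z = π Z * π g
      rw [← map_mul, h1, map_mul]
  refine h.of_hom f ?_
  refine isSolvable_of_le_center fun g hg => ?_
  have h1 : (g : G) ∈ center G := hk (by
    have := congrArg Subtype.val hg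
    exact this)
  rw [Subgroup.mem_center_iff]
  intro a
  exact Subtype.ext (Subgroup.mem_center_iff.1 h1 a)

end Lift

end Cfsg.Agent.H236
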