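import Cfsg.Agent.H236.Lift
import Cfsg.Agent.BpLin.PSU

/-!
# The centralizer of a matrix: linear and unitary groups (helper236)

* `mat_two`, `mat_odd` : the units of the centralizer of `A`, `A² = λ`, resp. `A = [X, Y]` of odd prime order;
* `herm_two`, `herm_odd` : the unitary group of the centralizer, for an involution which is semilinear over `F`.
-/

set_option autoImplicit false
set_option linter.unusedSectionVars false

namespace Cfsg.Agent.H236

open Subgroup Cfsg Cfsg.Agent.BpLin Cfsg.Agent.BpCl Cfsg.Agent.BpCl.Free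

universe u

section Mat

variable {F : Type u} [Field F] {n : ℕ}

/-- the centralizer of a matrix -/
abbrev CM (A : Matrix (Fin n) (Fin n) F) : Subring (Matrix (Fin n) (Fin n) F) := Subring.centralizer {A}

theorem mem_CM {A M : Matrix (Fin n) (Fin n) F} : M ∈ CM A ↔ A * M = M * A := by
  rw [Subring.mem_centralizer_iff]
  exact ⟨fun h => h A (Set.mem_singleton A), fun h g hg => by rw [Set.mem_singleton_iff] at hg; rw [hg, h]⟩

/-- the centralizer as endomorphisms -/
noncomputable def centMat (A : Matrix (Fin n) (Fin n) F) : ↥(CM A) ≃+* ↥(Cent (Matrix.toLinAlgEquiv' A : Module.End F (Fin n → F))) where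
  toFun M := ⟨Matrix.toLinAlgEquiv' M.1, mem_Cent.2 fun v => by
    have h := mem_CM.1 M.2
    have h1 : (Matrix.toLinAlgEquiv' A * Matrix.toLinAlgEquiv' M.1 : Module.End F (Fin n → F)) =
        Matrix.toLinAlgEquiv' M.1 * Matrix.toLinAlgEquiv' A := by
      rw [← map_mul, h, map_mul]
    exact LinearMap.congr_fun h1 v⟩
  invFun T := ⟨Matrix.toLinAlgEquiv'.symm T.1, mem_CM.2 (by
    apply (Matrix.toLinAlgEquiv' (R := F) (n := Fin n)).injective
    rw [map_mul, map_mul, AlgEquiv.apply_symm_apply]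
    exact LinearMap.ext (mem_Cent.1 T.2))⟩
  left_inv M := Subtype.ext (AlgEquiv.symm_apply_apply _ _)
  right_inv T := Subtype.ext (AlgEquiv.apply_symm_apply _ _)
  map_mul' M N := Subtype.ext (map_mul _ _ _)
  map_add' M N := Subtype.ext (map_add _ _ _)

/-- the scalar matrices -/
def mscal (A : Matrix (Fin n) (Fin n) F) : F →+* ↥(CM A) :=
  (Matrix.scalar (Fin n)).codRestrict _ fun a => mem_CM.2
    (Matrix.scalar_commute a (fun r' => Commute.all a r') A).eq.symm

theorem mscal_center (A : Matrix (Fin n) (Fin n) F) (a : F) : mscal A a ∈ Subring.center ↥(CM A) := by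
  rw [Subring.mem_center_iff]
  intro M
  exact Subtype.ext (Matrix.scalar_commute a (fun r' => Commute.all a r') M.1).eq.symm

theorem natCast_CM {r : ℕ} [CharP F r] (A : Matrix (Fin n) (Fin n) F) : ((r : ℕ) : ↥(CM A)) = 0 := by
  rw [← map_natCast (mscal A), CharP.cast_eq_zero, map_zero]

theorem centMat_mscal (A : Matrix (Fin n) (Fin n) F) (a : F) :
    (centMat A (mscal A a)).1 = a • (1 : Module.End F (Fin n → F)) := by
  change Matrix.toLinAlgEquiv' (Matrix.scalar (Fin n) a) = _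
  rw [Matrix.scalar_apply, ← Matrix.smul_one_eq_diagonal, map_smul, map_one]

end Mat

section Generic

variable {F : Type*} [Field F] {ι : Type*} [Fintype ι] [DecidableEq ι] {D : ι → Type*} [∀ i, DivisionRing (D i)]
  {d : ι → ℕ} [∀ i, NeZero (d i)] {E : Type*} [Ring E] [Finite E] (e : E ≃+* ∀ i, Matrix (Fin (d i)) (Fin (d i)) (D i))

include e in
/-- the field embeds into the division rings -/
theorem exists_embed' (c : F →+* E) (hc : ∀ a, c a ∈ Subring.center E) (i : ι) :
    ∃ f : F → D i, Function.Injective f ∧ ∀ a, e (c a) i = Matrix.scalar (Fin (d i)) (f a) := by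
  have hfD := finite_D e i
  let _ : Field (D i) := littleWedderburn (D i)
  have h1 : ∀ a : F, ∃ b : D i, e (c a) i = Matrix.scalar (Fin (d i)) b := by
    intro a
    apply exists_scalar
    rw [Subring.mem_center_iff]
    intro A
    have h1 := Subring.mem_center_iff.mp (hc a) (e.symm (Pi.single i A))
    have h2 := congrFun (congrArg e h1) i
    rw [map_mul, map_mul, e.apply_symm_apply, Pi.mul_apply, Pi.mul_apply, Pi.single_eq_same] at h2
    exact h2
  choose f hf using h1
  refine ⟨f, ?_, hf⟩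
  intro a b hab
  have : Nonempty (Fin (d i)) := ⟨0⟩
  let ρ : F →+* Matrix (Fin (d i)) (Fin (d i)) (D i) :=
    (Pi.evalRingHom (fun i => Matrix (Fin (d i)) (Fin (d i)) (D i)) i).comp ((e : E →+* _).comp c)
  apply ρ.injective
  change e (c a) i = e (c b) i
  rw [hf, hf, hab]

include e in
/-- a central commutator of order `p` with nontrivial component: `p` divides the dimension -/
theorem dvd_dim_of_ne {p : ℕ} [Fact p.Prime] (X Y Z : Eˣ) (hZ : X * Y * X⁻¹ * Y⁻¹ = Z)
    (hZc : (Z : E) ∈ Subring.center E) (hZp : Z ^ p = 1) (i : ι) (hi : e (Z : E) i ≠ 1) : p ∣ d i := by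
  have := finite_D e i
  let _ : Field (D i) := littleWedderburn (D i)
  have h1 : e (Z : E) i ∈ Subring.center (Matrix (Fin (d i)) (Fin (d i)) (D i)) := by
    rw [Subring.mem_center_iff]
    intro g
    have h1 := Subring.mem_center_iff.mp hZc (e.symm (Pi.single i g))
    have h2 := congrFun (congrArg e h1) i
    rw [map_mul, map_mul, e.apply_symm_apply, Pi.mul_apply, Pi.mul_apply, Pi.single_eq_same] at h2
    exact h2
  have h2 : (e (Z : E) i) ^ p = 1 := by
    have h1 : (Z : E) ^ p = 1 := by rw [← Units.val_pow_eq_pow_val, hZp, Units.val_one]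
    have h2 := congrFun (congrArg e h1) i
    rwa [map_pow, Pi.pow_apply, map_one] at h2
  obtain ⟨c, hc⟩ := exists_scalar h1
  let f : Eˣ →* GL (Fin (d i)) (D i) :=
    (Units.map (Pi.evalMonoidHom (fun i => Matrix (Fin (d i)) (Fin (d i)) (D i)) i)).comp
      (Units.mapEquiv e.toMulEquiv).toMonoidHom
  have hf : ∀ u : Eˣ, ((f u : GL (Fin (d i)) (D i)) : Matrix (Fin (d i)) (Fin (d i)) (D i)) = e (u : E) i := fun _ => rfl
  have : Nonempty (Fin (d i)) := ⟨0⟩
  refine dvd_dim (p := p) (X := f X) (Y := f Y) (c := c) ?_ ?_ ?_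
  · rintro rfl
    apply hi
    rw [hc, map_one]
  · have h4 : Matrix.scalar (Fin (d i)) (c ^ p) = Matrix.scalar (Fin (d i)) 1 := by
      rw [map_pow, ← hc, map_one]
      exact h2
    exact Matrix.scalar_inj.1 h4
  · have h4 : f X * f Y * (f X)⁻¹ * (f Y)⁻¹ = f Z := by
      rw [← hZ, map_mul, map_mul, map_mul, map_inv, map_inv]
    rw [h4, hf]
    exact hc

end Generic

section Two

variable {F : Type u} [Field F] [Finite F] {n r : ℕ} [Fact r.Prime] [CharP F r]

instance finite_CM (A : Matrix (Fin n) (Fin n) F) : Finite ↥(CM A) :=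
  Finite.of_injective (fun M : ↥(CM A) => (M : Matrix (Fin n) (Fin n) F)) Subtype.val_injective

theorem eigen_two {V : Type*} [AddCommGroup V] [Module F V] (h2 : (2 : F) ≠ 0) {g : Module.End F V} {μ : F}
    (hμ : μ ≠ 0) (hg : g * g = (μ * μ) • (1 : Module.End F V)) [DecidableEq F] (v : V) :
    v ∈ ⨆ c ∈ ({μ, -μ} : Finset F), Module.End.eigenspace g c := by
  have hgv : g (g v) = (μ * μ) • v := LinearMap.congr_fun hg v
  have e1 : v = (2 : F)⁻¹ • (v + μ⁻¹ • g v) + (2 : F)⁻¹ • (v - μ⁻¹ • g v) := by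
    rw [← smul_add]
    have : v + μ⁻¹ • g v + (v - μ⁻¹ • g v) = (2 : F) • v := by rw [two_smul]; abel
    rw [this, smul_smul, inv_mul_cancel₀ h2, one_smul]
  rw [e1]
  refine Submodule.add_mem _ (Submodule.smul_mem _ _ ?_) (Submodule.smul_mem _ _ ?_)
  · refine Submodule.mem_iSup_of_mem μ (Submodule.mem_iSup_of_mem (by simp) ?_)
    rw [Module.End.mem_eigenspace_iff, map_add, map_smul, hgv, smul_add, smul_smul, smul_smul,
      inv_mul_cancel_left₀ hμ, mul_inv_cancel₀ hμ, one_smul, add_comm]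
  · refine Submodule.mem_iSup_of_mem (-μ) (Submodule.mem_iSup_of_mem (by simp) ?_)
    rw [Module.End.mem_eigenspace_iff, map_sub, map_smul, hgv, smul_sub, smul_smul, smul_smul,
      inv_mul_cancel_left₀ hμ, neg_mul, mul_inv_cancel₀ hμ, neg_smul, neg_smul, one_smul]
    abel

theorem sum_le_of {ι : Type*} [Fintype ι] {d : ι → ℕ} {k m : ℕ} (hι : Fintype.card ι ≤ k) (hd : ∀ i, d i ≤ m) :
    ∑ i, d i ≤ k * m := by
  calc ∑ i, d i ≤ ∑ _i : ι, m := Finset.sum_le_sum fun i _ => hd i
    _ = Fintype.card ι * m := by rw [Finset.sum_const, Finset.card_univ, smul_eq_mul]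
    _ ≤ k * m := Nat.mul_le_mul_right _ hι

/-- **Linear groups, an element with scalar square.** -/
theorem mat_two (h2 : (2 : F) ≠ 0) {A : Matrix (Fin n) (Fin n) F} {l : F} (hl : l ≠ 0) (hA : A * A = l • 1)
    (hWS : WS r (↥(CM A))ˣ) : n ≤ 2 ∨ (n ≤ 4 ∧ Nat.card F ≤ 3) := by
  classical
  set g : Module.End F (Fin n → F) := Matrix.toLinAlgEquiv' A with hg
  have hgg : g * g = l • (1 : Module.End F (Fin n → F)) := by
    rw [hg, ← map_mul, hA, map_smul, map_one]
  have hfr : Module.finrank F (Fin n → F) = n := Module.finrank_fin_fun F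
  by_cases hsq : ∃ μ : F, l = μ * μ
  · obtain ⟨μ, rfl⟩ := hsq
    have hμ : μ ≠ 0 := left_ne_zero_of_mul hl
    obtain ⟨ι, _, _, c, d, _, e, hci, hcS, hsum, hcg, hsc⟩ := exists_eigen g {μ, -μ} (eigen_two h2 hμ hgg)
    have hι : Fintype.card ι ≤ 2 := by
      have h1 := Finset.card_le_card_of_injOn (s := Finset.univ) c (fun i _ => hcS i) hci.injOn
      rw [Finset.card_univ] at h1
      exact h1.trans Finset.card_le_two
    have hb := fun i => units_bound ((centMat A).trans e) (natCast_CM (r := r) A) hWS i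
    rw [hfr] at hsum
    by_cases h1 : ∀ i, d i ≤ 1
    · left
      rw [← hsum]
      exact (sum_le_of hι h1).trans (by norm_num)
    · right
      push Not at h1
      obtain ⟨i, hi⟩ := h1
      refine ⟨?_, ?_⟩
      · rw [← hsum]
        exact (sum_le_of hι fun j => (by rcases hb j with h | ⟨h, -⟩ <;> omega : d j ≤ 2)).trans (by norm_num)
      · rcases hb i with h | ⟨-, h⟩
        · omega
        · exact h
  · left
    obtain ⟨D, _, _, d, ⟨e⟩, hD, hdim⟩ := exists_quad (a := l) (b := 0) (fun a ha => hsq ⟨a, by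
      rw [← ha' ha]⟩) g (by rw [hgg, zero_smul, add_zero])
    rw [hfr] at hdim
    rcases Nat.eq_zero_or_pos d with h0 | h0
    · omega
    have hd : NeZero d := ⟨by omega⟩
    have h3 := units_bound (ι := Unit) (D := fun _ => D) (d := fun _ => d)
      (((centMat A).trans e).trans (RingEquiv.piUnique (fun _ : Unit => Matrix (Fin d) (Fin d) D)).symm)
      (natCast_CM (r := r) A) hWS ()
    have h4 : 2 ≤ Nat.card F := Finite.one_lt_card
    rcases h3 with h3 | ⟨-, h3⟩
    · omega
    · rw [hD] at h3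
      nlinarith
where
  ha' {l a : F} (h : a ^ 2 = l + 0 * a) : a * a = l := by
    rw [zero_mul, add_zero] at h
    rw [← h, pow_two]

/-- **Unitary groups, an element with scalar square.** -/
theorem herm_two (h2 : (2 : F) ≠ 0) {A : Matrix (Fin n) (Fin n) F} {l : F} (hl : l ≠ 0) (hA : A * A = l • 1)
    (s : RInv ↥(CM A)) {b b' : F} (hb : b ≠ b') (hs : s (mscal A b) = mscal A b') (hWS : WS r ↥s.U) :
    n ≤ 2 ∨ (n ≤ 4 ∧ Nat.card F ≤ 9) := by
  classical
  set g : Module.End F (Fin n → F) := Matrix.toLinAlgEquiv' A with hg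
  have hgg : g * g = l • (1 : Module.End F (Fin n → F)) := by
    rw [hg, ← map_mul, hA, map_smul, map_one]
  have hfr : Module.finrank F (Fin n → F) = n := Module.finrank_fin_fun F
  have hne4 : ∀ q : ℕ, Nat.card F ≠ 4 := by
    intro _ h
    apply h2
    have h3 : r ∣ Nat.card F := dvd_card_field
    rw [h] at h3
    have h4 : r ∣ 2 := (Fact.out (p := r.Prime)).dvd_of_dvd_pow (show r ∣ 2 ^ 2 from h3)
    have h5 := (Nat.prime_dvd_prime_iff_eq Fact.out Nat.prime_two).1 h4
    subst h5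
    exact_mod_cast CharP.cast_eq_zero F 2
  by_cases hsq : ∃ μ : F, l = μ * μ
  · obtain ⟨μ, rfl⟩ := hsq
    have hμ : μ ≠ 0 := left_ne_zero_of_mul hl
    obtain ⟨ι, _, _, c, d, _, e, hci, hcS, hsum, hcg, hsc⟩ := exists_eigen g {μ, -μ} (eigen_two h2 hμ hgg)
    have hι : Fintype.card ι ≤ 2 := by
      have h1 := Finset.card_le_card_of_injOn (s := Finset.univ) c (fun i _ => hcS i) hci.injOn
      rw [Finset.card_univ] at h1
      exact h1.trans Finset.card_le_two
    have hb := fun i => block_small ((centMat A).trans e) s (natCast_CM (r := r) A) hWS (i := i)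
      (mscal_center A b) (by
        rw [hs]
        change e (centMat A (mscal A b')) i ≠ e (centMat A (mscal A b)) i
        rw [hsc _ b' (centMat_mscal A b'), hsc _ b (centMat_mscal A b)]
        intro h
        have : Nonempty (Fin (d i)) := ⟨0⟩
        exact hb (Matrix.scalar_inj.1 h).symm)
    rw [hfr] at hsum
    by_cases h1 : ∀ i, d i ≤ 1
    · left
      rw [← hsum]
      exact (sum_le_of hι h1).trans (by norm_num)
    · right
      push Not at h1
      obtain ⟨i, hi⟩ := h1
      refine ⟨?_, ?_⟩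
      · rw [← hsum]
        refine (sum_le_of hι fun j => (?_ : d j ≤ 2)).trans (by norm_num)
        rcases hb j with h | ⟨h, -⟩ | ⟨-, h⟩
        · omega
        · omega
        · exact absurd h (hne4 0)
      · rcases hb i with h | ⟨-, h⟩ | ⟨-, h⟩
        · omega
        · exact h
        · exact absurd h (hne4 0)
  · obtain ⟨D, _, _, d, ⟨e⟩, hD, hdim⟩ := exists_quad (a := l) (b := 0) (fun a ha => hsq ⟨a, by
      rw [← mat_two.ha' ha]⟩) g (by rw [hgg, zero_smul, add_zero])
    rw [hfr] at hdim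
    rcases Nat.eq_zero_or_pos d with h0 | h0
    · omega
    have hd : NeZero d := ⟨by omega⟩
    have hn : NeZero n := ⟨by omega⟩
    have h3 := block_small (ι := Unit) (D := fun _ => D) (d := fun _ => d)
      (((centMat A).trans e).trans (RingEquiv.piUnique (fun _ : Unit => Matrix (Fin d) (Fin d) D)).symm)
      s (natCast_CM (r := r) A) hWS (i := ()) (mscal_center A b) (by
        rw [hs]
        intro h
        have h5 : mscal A b' = mscal A b := by
          apply (((centMat A).trans e).trans (RingEquiv.piUnique (fun _ : Unit => Matrix (Fin d) (Fin d) D)).symm).injective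
          funext i
          exact h
        have h6 : Matrix.scalar (Fin n) b' = Matrix.scalar (Fin n) b := congrArg Subtype.val h5
        have : Nonempty (Fin n) := ⟨0⟩
        exact hb (Matrix.scalar_inj.1 h6).symm)
    have h4 : 3 ≤ Nat.card F := by
      by_contra hlt
      have h5 : 1 < Nat.card F := Finite.one_lt_card
      have h6 : Nat.card F = 2 := by omega
      apply h2
      have h3 : r ∣ Nat.card F := dvd_card_field
      rw [h6] at h3
      have h5 := (Nat.prime_dvd_prime_iff_eq Fact.out Nat.prime_two).1 h3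
      subst h5
      exact_mod_cast CharP.cast_eq_zero F 2
    rw [hD] at h3
    rcases h3 with h3 | ⟨h3, h5⟩ | ⟨-, h5⟩
    · omega
    · right
      refine ⟨by omega, by nlinarith⟩
    · exfalso
      nlinarith

end Two

section Odd

variable {F : Type u} [Field F] [Finite F] {n r : ℕ} [Fact r.Prime] [CharP F r] {p : ℕ} [hp : Fact p.Prime]

/-- a unit of the centralizer -/
theorem exists_unit_CM {A : Matrix (Fin n) (Fin n) F} (X : GL (Fin n) F) (h : A * X.1 = X.1 * A) :
    ∃ x : (↥(CM A))ˣ, ((x : ↥(CM A)) : Matrix (Fin n) (Fin n) F) = X.1 := by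
  have h' : A * (X⁻¹).1 = (X⁻¹).1 * A := by
    calc A * (X⁻¹).1 = (X⁻¹).1 * (X.1 * A) * (X⁻¹).1 := by
          rw [← mul_assoc, Units.inv_mul, one_mul]
      _ = (X⁻¹).1 * A := by rw [← h, mul_assoc, mul_assoc, Units.mul_inv, mul_one]
  refine ⟨⟨⟨X.1, mem_CM.2 h⟩, ⟨(X⁻¹).1, mem_CM.2 h'⟩, Subtype.ext X.mul_inv, Subtype.ext X.inv_mul⟩, rfl⟩

theorem units_comm' {A : Matrix (Fin n) (Fin n) F} {x y z : (↥(CM A))ˣ} {X Y Z : GL (Fin n) F}
    (hx : ((x : ↥(CM A)) : Matrix (Fin n) (Fin n) F) = X.1) (hy : ((y : ↥(CM A)) : Matrix (Fin n) (Fin n) F) = Y.1)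
    (hz : ((z : ↥(CM A)) : Matrix (Fin n) (Fin n) F) = Z.1) (h : X * Y * X⁻¹ * Y⁻¹ = Z) :
    x * y * x⁻¹ * y⁻¹ = z := by
  rw [mul_inv_eq_iff_eq_mul, mul_inv_eq_iff_eq_mul]
  apply Units.ext
  apply Subtype.ext
  have h1 : X * Y = Z * Y * X := by
    rw [← h]; group
  have h2 : X.1 * Y.1 = Z.1 * Y.1 * X.1 := congrArg Units.val h1
  change ((x : ↥(CM A)) : Matrix (Fin n) (Fin n) F) * ((y : ↥(CM A)) : Matrix (Fin n) (Fin n) F) =
    ((z : ↥(CM A)) : Matrix (Fin n) (Fin n) F) * ((y : ↥(CM A)) : Matrix (Fin n) (Fin n) F) *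
    ((x : ↥(CM A)) : Matrix (Fin n) (Fin n) F)
  rw [hx, hy, hz, h2]

theorem units_pow' {A : Matrix (Fin n) (Fin n) F} {z : (↥(CM A))ˣ} {Z : GL (Fin n) F}
    (hz : ((z : ↥(CM A)) : Matrix (Fin n) (Fin n) F) = Z.1) {m : ℕ} (h : Z ^ m = 1) : z ^ m = 1 := by
  apply Units.ext
  apply Subtype.ext
  rw [Units.val_pow_eq_pow_val, Subring.coe_pow, hz, ← Units.val_pow_eq_pow_val, h]
  rfl

/-- **Linear groups, `p` odd.** -/
theorem mat_odd (hp2 : p ≠ 2) (hpF : (p : F) ≠ 0) {X Y Z : GL (Fin n) F} (hXY : X * Y * X⁻¹ * Y⁻¹ = Z)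
    (hX : X * Z = Z * X) (hY : Y * Z = Z * Y) (hZ : Z ^ p = 1) (hZ1 : Z ≠ 1) (hWS : WS r (↥(CM Z.1))ˣ) : False := by
  have hZp : Z.1 ^ p = (1 : F) • (1 : Matrix (Fin n) (Fin n) F) := by
    rw [one_smul, ← Units.val_pow_eq_pow_val, hZ, Units.val_one]
  have hss : IsSemisimpleRing ↥(CM Z.1) := semisimple_centralizer_matrix hpF one_ne_zero hZp
  obtain ⟨x, hx⟩ := exists_unit_CM X (congrArg Units.val hX.symm)
  obtain ⟨y, hy⟩ := exists_unit_CM Y (congrArg Units.val hY.symm)
  obtain ⟨z, hz⟩ := exists_unit_CM Z (A := Z.1) rfl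
  have hxy := units_comm' hx hy hz hXY
  have hzp := units_pow' hz hZ
  have hzc : (z : ↥(CM Z.1)) ∈ Subring.center ↥(CM Z.1) := by
    rw [Subring.mem_center_iff]
    intro M
    apply Subtype.ext
    change (M : Matrix (Fin n) (Fin n) F) * ((z : ↥(CM Z.1)) : Matrix (Fin n) (Fin n) F) =
      ((z : ↥(CM Z.1)) : Matrix (Fin n) (Fin n) F) * (M : Matrix (Fin n) (Fin n) F)
    rw [hz]
    exact (mem_CM.1 M.2).symm
  obtain ⟨m, D, d, hD, hd, ⟨e⟩⟩ := IsSemisimpleRing.exists_ringEquiv_pi_matrix_divisionRing ↥(CM Z.1)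
  obtain ⟨i, hi⟩ : ∃ i, e (z : ↥(CM Z.1)) i ≠ 1 := by
    by_contra hne
    push Not at hne
    have h1 : e (z : ↥(CM Z.1)) = 1 := funext hne
    have h2 : (z : ↥(CM Z.1)) = 1 := by
      apply e.injective
      rw [h1, map_one]
    apply hZ1
    apply Units.ext
    rw [← hz, h2]
    rfl
  have h3 := dvd_dim_of_ne e x y z hxy hzc hzp i hi
  have h4 := units_bound e (natCast_CM (r := r) Z.1) hWS i
  have h5 : 3 ≤ d i := by
    have h1 := Nat.le_of_dvd (Nat.pos_of_ne_zero (NeZero.ne (d i))) h3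
    have h2 : 2 ≤ p := hp.out.two_le
    omega
  omega

/-- a cubic root in the field of four elements -/
theorem exists_omega (h4 : Nat.card F = 4) : ∃ w : F, w ^ 2 + w + 1 = 0 ∧ (2 : F) = 0 := by
  have := Fintype.ofFinite F
  have h2 : (2 : F) = 0 := by
    have h3 : ((Fintype.card F : ℕ) : F) = 0 := Nat.cast_card_eq_zero F
    rw [← Nat.card_eq_fintype_card, h4] at h3
    have h5 : (2 : F) * 2 = 0 := by
      rw [← h3]; norm_num
    exact mul_self_eq_zero.1 h5
  classical
  obtain ⟨w, hw0, hw1⟩ : ∃ w : F, w ≠ 0 ∧ w ≠ 1 := by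
    by_contra hcon
    push Not at hcon
    have h3 : (Finset.univ : Finset F) ⊆ {0, 1} := by
      intro t _
      by_cases h0 : t = 0
      · simp [h0]
      · simp [hcon t h0]
    have h5 := (Finset.card_le_card h3).trans Finset.card_le_two
    rw [Finset.card_univ, ← Nat.card_eq_fintype_card, h4] at h5
    omega
  refine ⟨w, ?_, h2⟩
  have h3 := FiniteField.pow_card_sub_one_eq_one w hw0
  rw [← Nat.card_eq_fintype_card, h4] at h3
  have h5 : (w - 1) * (w ^ 2 + w + 1) = 0 := by
    have : w ^ 3 = 1 := h3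
    linear_combination this
  exact (mul_eq_zero.1 h5).resolve_left (sub_ne_zero.2 hw1)

theorem eigen_three {V : Type*} [AddCommGroup V] [Module F V] {g : Module.End F V} {w : F}
    (hw : w ^ 2 + w + 1 = 0) (h2 : (2 : F) = 0) (hg : g * g * g = 1) [DecidableEq F] (v : V) :
    v ∈ ⨆ c ∈ ({1, w, w ^ 2} : Finset F), Module.End.eigenspace g c := by
  have hgv : g (g (g v)) = v := LinearMap.congr_fun hg v
  have hw3 : w ^ 3 = 1 := by linear_combination (w - 1) * hw
  have key : ∀ c : F, c ^ 3 = 1 → c ∈ ({1, w, w ^ 2} : Finset F) →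
      v + c ^ 2 • g v + c • g (g v) ∈ ⨆ c ∈ ({1, w, w ^ 2} : Finset F), Module.End.eigenspace g c := by
    intro c hc hcS
    refine Submodule.mem_iSup_of_mem c (Submodule.mem_iSup_of_mem hcS ?_)
    rw [Module.End.mem_eigenspace_iff, map_add, map_add, map_smul, map_smul, hgv, smul_add, smul_add, smul_smul,
      smul_smul]
    have e1 : c * c ^ 2 = 1 := by linear_combination hc
    have e2 : c * c = c ^ 2 := by ring
    rw [e1, e2, one_smul]
    abel
  have h1 := key 1 (one_pow 3) (by simp)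
  have h3 := key w hw3 (by simp)
  have h4 := key (w ^ 2) (by rw [← pow_mul, mul_comm, pow_mul, hw3, one_pow]) (by simp)
  have e : v = (v + (1 : F) ^ 2 • g v + (1 : F) • g (g v)) + (v + w ^ 2 • g v + w • g (g v)) +
      (v + (w ^ 2) ^ 2 • g v + w ^ 2 • g (g v)) := by
    have e1 : (v + (1 : F) ^ 2 • g v + (1 : F) • g (g v)) + (v + w ^ 2 • g v + w • g (g v)) +
      (v + (w ^ 2) ^ 2 • g v + w ^ 2 • g (g v)) = (3 : F) • v + (1 + w ^ 2 + (w ^ 2) ^ 2) • g v +
        (1 + w + w ^ 2) • g (g v) := by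
      have : (3 : F) = 1 + 1 + 1 := by norm_num
      rw [this]
      simp only [add_smul, one_smul, one_pow]
      abel
    rw [e1]
    have e2 : (3 : F) = 1 := by linear_combination h2
    have e3 : (1 + w ^ 2 + (w ^ 2) ^ 2 : F) = 0 := by linear_combination (w ^ 2 - w + 1) * hw
    have e4 : (1 + w + w ^ 2 : F) = 0 := by linear_combination hw
    rw [e2, e3, e4, one_smul, zero_smul, zero_smul, add_zero, add_zero]
  rw [e]
  exact Submodule.add_mem _ (Submodule.add_mem _ h1 h3) h4

/-- **Unitary groups, `p` odd.** -/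
theorem herm_odd (hp2 : p ≠ 2) (hpF : (p : F) ≠ 0) (hF4 : 4 ≤ Nat.card F) {X Y Z : GL (Fin n) F}
    (hXY : X * Y * X⁻¹ * Y⁻¹ = Z)
    (hX : X * Z = Z * X) (hY : Y * Z = Z * Y) (hZ : Z ^ p = 1) (hZ1 : Z ≠ 1)
    (s : RInv ↥(CM Z.1)) {b b' : F} (hb : b ≠ b') (hs : s (mscal Z.1 b) = mscal Z.1 b') (hWS : WS r ↥s.U) :
    p = 3 ∧ Nat.card F = 4 ∧ n ≤ 9 := by
  classical
  have hZp : Z.1 ^ p = (1 : F) • (1 : Matrix (Fin n) (Fin n) F) := by
    rw [one_smul, ← Units.val_pow_eq_pow_val, hZ, Units.val_one]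
  have hss : IsSemisimpleRing ↥(CM Z.1) := semisimple_centralizer_matrix hpF one_ne_zero hZp
  obtain ⟨x, hx⟩ := exists_unit_CM X (congrArg Units.val hX.symm)
  obtain ⟨y, hy⟩ := exists_unit_CM Y (congrArg Units.val hY.symm)
  obtain ⟨z, hz⟩ := exists_unit_CM Z (A := Z.1) rfl
  have hxy := units_comm' hx hy hz hXY
  have hzp := units_pow' hz hZ
  have hzc : (z : ↥(CM Z.1)) ∈ Subring.center ↥(CM Z.1) := by
    rw [Subring.mem_center_iff]
    intro M
    apply Subtype.ext
    change (M : Matrix (Fin n) (Fin n) F) * ((z : ↥(CM Z.1)) : Matrix (Fin n) (Fin n) F) =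
      ((z : ↥(CM Z.1)) : Matrix (Fin n) (Fin n) F) * (M : Matrix (Fin n) (Fin n) F)
    rw [hz]
    exact (mem_CM.1 M.2).symm
  have hr := natCast_CM (r := r) Z.1
  obtain ⟨m, D, d, hD, hd, ⟨e⟩⟩ := IsSemisimpleRing.exists_ringEquiv_pi_matrix_divisionRing ↥(CM Z.1)
  obtain ⟨i, hi⟩ : ∃ i, e (z : ↥(CM Z.1)) i ≠ 1 := by
    by_contra hne
    push Not at hne
    have h1 : e (z : ↥(CM Z.1)) = 1 := funext hne
    have h2 : (z : ↥(CM Z.1)) = 1 := by
      apply e.injective
      rw [h1, map_one]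
    apply hZ1
    apply Units.ext
    rw [← hz, h2]
    rfl
  have h3 := dvd_dim_of_ne e x y z hxy hzc hzp i hi
  have h5 : 3 ≤ d i := by
    have h1 := Nat.le_of_dvd (Nat.pos_of_ne_zero (NeZero.ne (d i))) h3
    have h2 : 2 ≤ p := hp.out.two_le
    omega
  obtain ⟨f, hfi, hf⟩ := exists_embed' e (mscal Z.1) (mscal_center Z.1) i
  have hfD := finite_D e i
  have h6 : d i = 3 ∧ Nat.card (D i) = 4 := by
    rcases block_small e s hr hWS (i := i) (mscal_center Z.1 b) (by
      rw [hs, hf, hf]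
      intro h
      have : Nonempty (Fin (d i)) := ⟨0⟩
      exact hb (hfi (Matrix.scalar_inj.1 h)).symm) with h | h | h
    · omega
    · omega
    · exact h
  have h7 : Nat.card F = 4 := by
    have h8 := Nat.card_le_card_of_injective f hfi
    rw [h6.2] at h8
    omega
  refine ⟨?_, h7, ?_⟩
  · rw [h6.1] at h3
    exact (Nat.prime_dvd_prime_iff_eq hp.out Nat.prime_three).1 h3
  · have hp3 : p = 3 := by
      rw [h6.1] at h3
      exact (Nat.prime_dvd_prime_iff_eq hp.out Nat.prime_three).1 h3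
    subst hp3
    obtain ⟨w, hw, h2⟩ := exists_omega h7
    set g : Module.End F (Fin n → F) := Matrix.toLinAlgEquiv' Z.1 with hg
    have hggg : g * g * g = 1 := by
      rw [hg, ← map_mul, ← map_mul, ← pow_two, ← pow_succ, hZp, one_smul, map_one]
    obtain ⟨ι, _, _, c, d', _, e', hci, hcS, hsum, hcg, hsc⟩ := exists_eigen g {1, w, w ^ 2} (eigen_three hw h2 hggg)
    have hι : Fintype.card ι ≤ 3 := by
      have h1 := Finset.card_le_card_of_injOn (s := Finset.univ) c (fun i _ => hcS i) hci.injOn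
      rw [Finset.card_univ] at h1
      exact h1.trans Finset.card_le_three
    have hb' := fun i => block_small ((centMat Z.1).trans e') s hr hWS (i := i)
      (mscal_center Z.1 b) (by
        rw [hs]
        change e' (centMat Z.1 (mscal Z.1 b')) i ≠ e' (centMat Z.1 (mscal Z.1 b)) i
        rw [hsc _ b' (centMat_mscal Z.1 b'), hsc _ b (centMat_mscal Z.1 b)]
        intro h
        have : Nonempty (Fin (d' i)) := ⟨0⟩
        exact hb (Matrix.scalar_inj.1 h).symm)
    have hfr : Module.finrank F (Fin n → F) = n := Module.finrank_fin_fun F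
    rw [hfr] at hsum
    rw [← hsum]
    refine (sum_le_of hι fun j => (?_ : d' j ≤ 3)).trans (by norm_num)
    rcases hb' j with h | ⟨h, -⟩ | ⟨h, -⟩ <;> omega

end Odd

end Cfsg.Agent.H236
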