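import Cfsg.Agent.H236.RS
import Cfsg.Agent.BpLin.SemiRing
import Cfsg.Agent.S0242
import Cfsg.Agent.S0243
import Cfsg.Agent.S0280
import Cfsg.Agent.ClassicalGeometry.PSL2Solvable

/-!
# `WS r` fails for the linear and unitary groups (helper236)

`not_ws_sl`, `not_ws_gl` : dimension at least two, at least four elements in the field if the dimension is two;
`not_ws_su`, `not_ws_gu` : dimension at least three, not `(3, 2)`.
-/

set_option autoImplicit false
set_option linter.unusedSectionVars false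

namespace Cfsg.Agent.H236

open Subgroup Cfsg Cfsg.Agent.BpGate

theorem not_solvable_of_sq {G : Type*} [Group G] [Finite G] [IsSimpleGroup G] {r : ℕ} (hr : r.Prime)
    (h : r ^ 2 ∣ Nat.card G) : ¬ Group.IsSolvable G := by
  intro hs
  have hc := (IsSimpleGroup.comm_iff_isSolvable (G := G)).2 hs
  let _ : CommGroup G := { (inferInstance : Group G) with mul_comm := hc }
  have h1 : (Nat.card G).Prime := IsSimpleGroup.prime_card
  have h2 : r ∣ Nat.card G := (dvd_pow_self r two_ne_zero).trans h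
  rw [(Nat.prime_dvd_prime_iff_eq hr h1).1 h2] at h
  have h3 := Nat.le_of_dvd h1.pos h
  have := h1.two_le
  nlinarith

section Linear

variable {F : Type*} [Field F] [Finite F] {r : ℕ} [Fact r.Prime]

theorem dvd_card_field [CharP F r] : r ∣ Nat.card F := by
  have := Fintype.ofFinite F
  rw [Nat.card_eq_fintype_card]
  exact (CharP.cast_eq_zero_iff F r _).1 (Nat.cast_card_eq_zero F)

theorem pow_dvd_card_psl [CharP F r] {n k : ℕ} (hn : 2 ≤ n)
    (hk : r ^ k ∣ ∏ i : Fin n, (Nat.card F ^ n - Nat.card F ^ (i : ℕ))) :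
    r ^ k ∣ Nat.card (Matrix.ProjectiveSpecialLinearGroup (Fin n) F) := by
  have := Fintype.ofFinite F
  have hr : r.Prime := Fact.out
  have hq : r ∣ Nat.card F := dvd_card_field
  have hq1 : 1 < Nat.card F := Finite.one_lt_card
  set q := Nat.card F with hqdef
  have h1 := S0243.result (F := F) (q := q) (Nat.card_eq_fintype_card).symm n hn
  rw [← h1] at hk
  have h3 : ¬ r ∣ q - 1 := by
    intro h
    have h4 : r ∣ q - (q - 1) := Nat.dvd_sub hq h
    rw [show q - (q - 1) = 1 by omega] at h4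
    exact hr.one_lt.ne' (Nat.dvd_one.1 h4)
  have h5 : (r ^ k).Coprime (q - 1) := ((Nat.Prime.coprime_iff_not_dvd hr).2 h3).pow_left k
  have h6 : (r ^ k).Coprime (Nat.gcd n (q - 1)) := Nat.Coprime.of_dvd_right (Nat.gcd_dvd_right _ _) h5
  exact h5.dvd_of_dvd_mul_left (h6.dvd_of_dvd_mul_left hk)

theorem dvd_card_psl [CharP F r] {n : ℕ} (hn : 2 ≤ n) :
    r ∣ Nat.card (Matrix.ProjectiveSpecialLinearGroup (Fin n) F) := by
  have hq : r ∣ Nat.card F := dvd_card_field
  have h := pow_dvd_card_psl (F := F) (r := r) (k := 1) hn (by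
    rw [pow_one]
    refine dvd_trans ?_ (Finset.dvd_prod_of_mem _ (Finset.mem_univ (⟨1, by omega⟩ : Fin n)))
    refine Nat.dvd_sub (hq.trans (dvd_pow_self _ (by omega))) ?_
    exact hq.trans (dvd_pow_self _ (by simp)))
  rwa [pow_one] at h

theorem sq_dvd_card_psl [CharP F r] {n : ℕ} (hn : 3 ≤ n) :
    r ^ 2 ∣ Nat.card (Matrix.ProjectiveSpecialLinearGroup (Fin n) F) := by
  have hq : r ∣ Nat.card F := dvd_card_field
  refine pow_dvd_card_psl (F := F) (r := r) (k := 2) (by omega) ?_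
  refine dvd_trans ?_ (Finset.dvd_prod_of_mem _ (Finset.mem_univ (⟨2, by omega⟩ : Fin n)))
  refine Nat.dvd_sub ?_ (pow_dvd_pow_of_dvd hq 2)
  exact (pow_dvd_pow r (show 2 ≤ n by omega)).trans (pow_dvd_pow_of_dvd hq n)

theorem psl_simple {n : ℕ} (hn : 2 ≤ n) (h2 : n = 2 → 4 ≤ Nat.card F) :
    IsSimpleGroup (Matrix.ProjectiveSpecialLinearGroup (Fin n) F) := by
  rcases Nat.eq_or_lt_of_le hn with rfl | hn
  · exact Matrix.ProjectiveSpecialLinearGroup.rank_two_simple (h2 rfl)
  · exact LieClassical.SLGen.psl_isSimpleGroup (by rw [Fintype.card_fin]; exact hn)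

theorem not_solvable_psl {n : ℕ} (hn : 2 ≤ n) (h2 : n = 2 → 4 ≤ Nat.card F) :
    ¬ Group.IsSolvable (Matrix.ProjectiveSpecialLinearGroup (Fin n) F) := by
  have := Fintype.ofFinite F
  rcases Nat.eq_or_lt_of_le hn with rfl | hn
  · exact ClassicalGeometry.PSL2Solvable.not_isSolvable_psl F (by rw [← Nat.card_eq_fintype_card]; exact h2 rfl)
  · obtain ⟨r, hr⟩ := CharP.exists F
    have : Fact r.Prime := ⟨CharP.char_is_prime F r⟩
    have := psl_simple (F := F) (n := n) (by omega) (by omega)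
    exact not_solvable_of_sq (r := r) Fact.out (sq_dvd_card_psl hn)

/-- **`WS` fails for `SL_n`.** -/
theorem not_ws_sl [CharP F r] {n : ℕ} (hn : 2 ≤ n) (h2 : n = 2 → 4 ≤ Nat.card F) :
    ¬ WS r (Matrix.SpecialLinearGroup (Fin n) F) := by
  have := psl_simple (F := F) hn h2
  exact not_ws_of_surjective (not_solvable_psl hn h2) (dvd_card_psl hn)
    (QuotientGroup.mk' (Subgroup.center (Matrix.SpecialLinearGroup (Fin n) F))) (QuotientGroup.mk'_surjective _)

/-- **`WS` fails for `GL_n`.** -/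
theorem not_ws_gl [CharP F r] {n : ℕ} (hn : 2 ≤ n) (h2 : n = 2 → 4 ≤ Nat.card F) :
    ¬ WS r (GL (Fin n) F) := by
  intro h
  have : Finite (GL (Fin n) F) := inferInstance
  exact not_ws_sl (F := F) hn h2 (h.of_injective (Matrix.SpecialLinearGroup.toGL (n := Fin n) (R := F))
    Matrix.SpecialLinearGroup.toGL_injective)

end Linear

section Unitary

variable {F : Type*} [Field F] [Fintype F] {q r : ℕ} [Fact r.Prime]

theorem dvd_q [CharP F r] (hF : Fintype.card F = q ^ 2) : r ∣ q := by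
  have h : r ∣ Nat.card F := dvd_card_field
  rw [Nat.card_eq_fintype_card, hF] at h
  exact (Fact.out (p := r.Prime)).dvd_of_dvd_pow h

theorem sq_dvd_card_psu [CharP F r] (hF : Fintype.card F = q ^ 2) {n : ℕ} (hn : 3 ≤ n) :
    r ^ 2 ∣ Nat.card (PSU n F q) := by
  have hr : r.Prime := Fact.out
  have hq : r ∣ q := dvd_q hF
  have h1 := S0280.result hF n (by omega)
  have h2 : r ^ 2 ∣ q ^ (n * (n - 1) / 2) * ∏ i ∈ Finset.range n, (if Even i then q ^ (i + 1) + 1 else q ^ (i + 1) - 1) := by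
    refine Dvd.dvd.mul_right ?_ _
    have h3 : 2 ≤ n * (n - 1) / 2 := by
      have : 3 * 2 ≤ n * (n - 1) := Nat.mul_le_mul hn (by omega)
      omega
    exact (pow_dvd_pow_of_dvd hq 2).trans (pow_dvd_pow q h3)
  rw [← h1] at h2
  have h3 : ¬ r ∣ q + 1 := by
    intro h
    have h4 : r ∣ q + 1 - q := Nat.dvd_sub h hq
    rw [Nat.add_sub_cancel_left] at h4
    exact hr.one_lt.ne' (Nat.dvd_one.1 h4)
  have h5 : (r ^ 2).Coprime (q + 1) := ((Nat.Prime.coprime_iff_not_dvd hr).2 h3).pow_left 2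
  have h6 : (r ^ 2).Coprime (Nat.gcd n (q + 1)) := Nat.Coprime.of_dvd_right (Nat.gcd_dvd_right _ _) h5
  exact h5.dvd_of_dvd_mul_left (h6.dvd_of_dvd_mul_left h2)

theorem not_ws_psu [CharP F r] (hF : Fintype.card F = q ^ 2) {n : ℕ} (hn : 3 ≤ n) (h : ¬ (n = 3 ∧ q = 2)) :
    ¬ WS r (PSU n F q) := by
  have hs : IsSimpleGroup (PSU n F q) := S0283.result hF n hn h
  have h2 := sq_dvd_card_psu (r := r) hF hn
  exact not_ws_of_surjective (not_solvable_of_sq (r := r) Fact.out h2) ((dvd_pow_self r two_ne_zero).trans h2)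
    (MonoidHom.id _) Function.surjective_id

/-- **`WS` fails for `SU_n`.** -/
theorem not_ws_su [CharP F r] (hF : Fintype.card F = q ^ 2) {n : ℕ} (hn : 3 ≤ n) (h : ¬ (n = 3 ∧ q = 2)) :
    ¬ WS r ↥(SU n F q) := fun h1 =>
  not_ws_psu hF hn h (h1.of_surjective (QuotientGroup.mk' (Subgroup.center (SU n F q))) (QuotientGroup.mk'_surjective _))

/-- **`WS` fails for `GU_n`.** -/
theorem not_ws_gu [CharP F r] (hF : Fintype.card F = q ^ 2) {n : ℕ} (hn : 3 ≤ n) (h : ¬ (n = 3 ∧ q = 2)) :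
    ¬ WS r ↥(GU n F q) := by
  intro h1
  refine not_ws_su hF hn h (h1.of_injective (BpLin.suToGU n F q) ?_)
  intro a b hab
  apply Subtype.ext
  apply Subtype.ext
  rw [← BpLin.coe_suToGU, ← BpLin.coe_suToGU, hab]

/-- `SU_2(q)` is `SL_2(q)` -/
theorem not_ws_su_two [CharP F r] (hF : Fintype.card F = q ^ 2) (hq : 4 ≤ q) : ¬ WS r ↥(SU 2 F q) := by
  intro h
  obtain ⟨_, _, _, _, θ, -⟩ := Phan.exists_model hF
  have : CharP (Phan.fixedField hF) r :=
    (RingHom.charP_iff (Phan.fixedField hF).subtype (Phan.fixedField hF).subtype.injective r).2 inferInstance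
  exact not_ws_sl (F := Phan.fixedField hF) (r := r) le_rfl (fun _ => by rw [Phan.card_fixedField hF]; exact hq)
    (h.congr θ)

theorem not_ws_gu_two [CharP F r] (hF : Fintype.card F = q ^ 2) (hq : 4 ≤ q) : ¬ WS r ↥(GU 2 F q) := by
  intro h1
  refine not_ws_su_two hF hq (h1.of_injective (BpLin.suToGU 2 F q) ?_)
  intro a b hab
  apply Subtype.ext
  apply Subtype.ext
  rw [← BpLin.coe_suToGU, ← BpLin.coe_suToGU, hab]

/-- **The bound for the general unitary group.** -/
theorem gu_bound [CharP F r] (hF : Fintype.card F = q ^ 2) {n : ℕ} (h : WS r ↥(GU n F q)) :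
    n ≤ 1 ∨ (n = 2 ∧ q ≤ 3) ∨ (n = 3 ∧ q = 2) := by
  by_contra hne
  rcases Nat.lt_or_ge n 3 with h3 | h3
  · have h2 : n = 2 := by omega
    subst h2
    exact not_ws_gu_two hF (by omega) h
  · exact not_ws_gu hF h3 (fun h' => hne (Or.inr (Or.inr h'))) h

end Unitary

/-- **The bound for the general linear group.** -/
theorem gl_bound {F : Type*} [Field F] [Finite F] {r : ℕ} [Fact r.Prime] [CharP F r] {n : ℕ}
    (h : WS r (GL (Fin n) F)) : n ≤ 1 ∨ (n = 2 ∧ Nat.card F ≤ 3) := by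
  by_contra hne
  exact not_ws_gl (F := F) (r := r) (n := n) (by omega) (fun h2 => by omega) h

end Cfsg.Agent.H236
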