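import Cfsg.Agent.H236.Isom

/-!
# Isometries: a commutator of odd prime order (helper236)

`free_odd` : `g = [X, Y]` a fixed point free isometry of odd prime order `p` commuting with the isometries `X` and `Y`; if
`WS r` holds for the isometries commuting with `g` then `p = 3`, `|F| = 2` and `dim V = 6`.
-/

set_option autoImplicit false
set_option linter.unusedSectionVars false

namespace Cfsg.Agent.H236

open Subgroup Cfsg Cfsg.Agent.BpLin Cfsg.Agent.BpCl Cfsg.Agent.BpCl.Free QuadraticMap
open Cfsg.Agent.LieClassical.OrthCore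

universe u v

section Scalars

variable {F : Type u} {V : Type v} [Field F] [Finite F] [AddCommGroup V] [Module F V] [Module.Finite F V]
  {r : ℕ} [Fact r.Prime]

/-- the scalars -/
def scal (g : Module.End F V) : F →+* ↥(Cent g) :=
  (algebraMap F (Module.End F V)).codRestrict _ fun a => mem_Cent.2 fun v => by
    rw [Module.algebraMap_end_apply, Module.algebraMap_end_apply, map_smul]

theorem scal_coe (g : Module.End F V) (a : F) (v : V) : ((scal g a : ↥(Cent g)) : Module.End F V) v = a • v := rfl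

theorem scal_center (g : Module.End F V) (a : F) : scal g a ∈ Subring.center ↥(Cent g) := by
  rw [Subring.mem_center_iff]
  intro T
  apply Subtype.ext
  apply LinearMap.ext
  intro v
  change T.1 (a • v) = a • T.1 v
  rw [map_smul]

theorem natCast_eq_zero [CharP F r] (g : Module.End F V) : ((r : ℕ) : ↥(Cent g)) = 0 := by
  rw [← map_natCast (scal g), CharP.cast_eq_zero, map_zero]

instance finite_end : Finite (Module.End F V) := by
  have hVf : Finite V := Module.finite_of_finite F
  exact Finite.of_injective (fun h : Module.End F V => (h : V → V)) DFunLike.coe_injective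

variable {ι : Type*} [Fintype ι] [DecidableEq ι] {D : ι → Type*} [∀ i, DivisionRing (D i)] {d : ι → ℕ}
  [∀ i, NeZero (d i)] {g : Module.End F V} (e : ↥(Cent g) ≃+* ∀ i, Matrix (Fin (d i)) (Fin (d i)) (D i))

include e in
/-- the field embeds into the division rings -/
theorem exists_embed (i : ι) : ∃ f : F → D i, Function.Injective f ∧
    ∀ a, e (scal g a) i = Matrix.scalar (Fin (d i)) (f a) := by
  have hfD := finite_D e i
  let _ : Field (D i) := littleWedderburn (D i)
  have h1 : ∀ a : F, ∃ c : D i, e (scal g a) i = Matrix.scalar (Fin (d i)) c := by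
    intro a
    apply exists_scalar
    rw [Subring.mem_center_iff]
    intro A
    have h1 := Subring.mem_center_iff.mp (scal_center g a) (e.symm (Pi.single i A))
    have h2 := congrFun (congrArg e h1) i
    rw [map_mul, map_mul, e.apply_symm_apply, Pi.mul_apply, Pi.mul_apply, Pi.single_eq_same] at h2
    exact h2
  choose f hf using h1
  refine ⟨f, ?_, hf⟩
  intro a b hab
  have : Nonempty (Fin (d i)) := ⟨0⟩
  let ρ : F →+* Matrix (Fin (d i)) (Fin (d i)) (D i) :=
    (Pi.evalRingHom (fun i => Matrix (Fin (d i)) (Fin (d i)) (D i)) i).comp ((e : ↥(Cent g) →+* _).comp (scal g))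
  apply ρ.injective
  change e (scal g a) i = e (scal g b) i
  rw [hf, hf, hab]

end Scalars

section Free

variable {F : Type u} {V : Type v} [Field F] [Finite F] [AddCommGroup V] [Module F V] [Module.Finite F V]
  {r : ℕ} [Fact r.Prime] [CharP F r]

/-- the adjoint fixes the scalars -/
theorem inv_scal {B : LinearMap.BilinForm F V} {ε : F} (hε : ε * ε = 1)
    (hB : ∀ u v, B u v = ε * B v u) (hnd : ∀ u, (∀ v, B u v = 0) → u = 0) {g : V ≃ₗ[F] V}
    (hg : ∀ u v, B (g u) (g v) = B u v) (a : F) :
    inv hnd hε hB hg (scal (g : Module.End F V) a) = scal (g : Module.End F V) a := by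
  apply Subtype.ext
  rw [inv_coe]
  apply adj_unique
  intro u v
  change B (a • u) v = B u (a • v)
  rw [map_smul, map_smul, LinearMap.smul_apply]

/-- a unit of the centralizer given by an isometry -/
theorem exists_units {B : LinearMap.BilinForm F V} {ε : F} (hε : ε * ε = 1)
    (hB : ∀ u v, B u v = ε * B v u) (hnd : ∀ u, (∀ v, B u v = 0) → u = 0) {g : V ≃ₗ[F] V}
    (hg : ∀ u v, B (g u) (g v) = B u v) {X : V ≃ₗ[F] V} (hX : ∀ u v, B (X u) (X v) = B u v)
    (hXg : ∀ v, X (g v) = g (X v)) :
    ∃ x : (↥(Cent (g : Module.End F V)))ˣ, x ∈ (inv hnd hε hB hg).U ∧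
      ∀ v, (x : ↥(Cent (g : Module.End F V))).1 v = X v := by
  obtain ⟨φ, hφ⟩ := exists_isoU B ε hε hB hnd g hg
  refine ⟨(φ.symm ⟨X, hX, hXg⟩).1, (φ.symm ⟨X, hX, hXg⟩).2, fun v => ?_⟩
  rw [← hφ, φ.apply_symm_apply]

theorem units_comm {g : Module.End F V} {x y z : (↥(Cent g))ˣ} {X Y Z : V ≃ₗ[F] V}
    (hx : ∀ v, (x : ↥(Cent g)).1 v = X v) (hy : ∀ v, (y : ↥(Cent g)).1 v = Y v)
    (hz : ∀ v, (z : ↥(Cent g)).1 v = Z v) (h : X * Y * X⁻¹ * Y⁻¹ = Z) : x * y * x⁻¹ * y⁻¹ = z := by
  rw [mul_inv_eq_iff_eq_mul, mul_inv_eq_iff_eq_mul]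
  apply Units.ext
  apply Subtype.ext
  apply LinearMap.ext
  intro v
  have h1 : X * Y = Z * Y * X := by
    rw [← h]; group
  have h2 := LinearEquiv.congr_fun h1 v
  change (x : ↥(Cent g)).1 ((y : ↥(Cent g)).1 v) = (z : ↥(Cent g)).1 ((y : ↥(Cent g)).1 ((x : ↥(Cent g)).1 v))
  rw [hx, hy, hz, hy, hx]
  exact h2

theorem units_pow {g : Module.End F V} {z : (↥(Cent g))ˣ} {Z : V ≃ₗ[F] V}
    (hz : ∀ v, (z : ↥(Cent g)).1 v = Z v) {n : ℕ} (h : Z ^ n = 1) : z ^ n = 1 := by
  have h1 : ∀ n v, ((z ^ n : (↥(Cent g))ˣ) : ↥(Cent g)).1 v = (Z ^ n) v := by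
    intro n
    induction n with
    | zero => intro v; rfl
    | succ n ih =>
      intro v
      rw [pow_succ, pow_succ, LinearEquiv.mul_apply, ← hz, ← ih]
      rfl
  apply Units.ext
  apply Subtype.ext
  apply LinearMap.ext
  intro v
  rw [h1, h]
  rfl

/-- **The fixed point free case.** -/
theorem free_odd {p : ℕ} (hp : p.Prime) (hp2 : p ≠ 2) (B : LinearMap.BilinForm F V) (ε : F) (hε : ε * ε = 1)
    (hB : ∀ u v, B u v = ε * B v u) (hnd : ∀ u, (∀ v, B u v = 0) → u = 0) (X Y g : V ≃ₗ[F] V)
    (hX : ∀ u v, B (X u) (X v) = B u v) (hY : ∀ u v, B (Y u) (Y v) = B u v)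
    (hg : ∀ u v, B (g u) (g v) = B u v) (hXY : X * Y * X⁻¹ * Y⁻¹ = g)
    (hXg : ∀ v, X (g v) = g (X v)) (hYg : ∀ v, Y (g v) = g (Y v)) (hgp : g ^ p = 1) (hpF : (p : F) ≠ 0)
    (hfix : ∀ v, g v = v → v = 0) (hV : ∃ v : V, v ≠ 0)
    (hWS : WS r ↥(Iso (fun u v => B u v) ⊓ CL F g.toEquiv)) :
    p = 3 ∧ Nat.card F = 2 ∧ Module.finrank F V = 6 := by
  have := Fact.mk hp
  have hVf : Finite V := Module.finite_of_finite F
  have hpow : ∀ n : ℕ, ∀ v, ((g : Module.End F V) ^ n) v = (g ^ n) v := by
    intro n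
    induction n with
    | zero => intro v; rfl
    | succ n ih =>
      intro v
      rw [pow_succ', pow_succ', Module.End.mul_apply, ih]
      rfl
  have hgE : (g : Module.End F V) ^ p = 1 := by
    apply LinearMap.ext
    intro v
    rw [hpow, hgp]
    rfl
  have hss : IsSemisimpleRing ↥(Cent (g : Module.End F V)) := isSemisimpleRing hgE hpF
  set s := inv hnd hε hB hg with hs
  obtain ⟨x, hxU, hx⟩ := exists_units hε hB hnd hg hX hXg
  obtain ⟨y, hyU, hy⟩ := exists_units hε hB hnd hg hY hYg
  obtain ⟨z, hzU, hz⟩ := exists_units hε hB hnd hg hg (fun v => rfl)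
  have hxy : x * y * x⁻¹ * y⁻¹ = z := units_comm hx hy hz hXY
  have hzp : z ^ p = 1 := units_pow hz hgp
  have hzc : (z : ↥(Cent (g : Module.End F V))) ∈ Subring.center ↥(Cent (g : Module.End F V)) := by
    rw [Subring.mem_center_iff]
    intro T
    apply Subtype.ext
    apply LinearMap.ext
    intro v
    change T.1 ((z : ↥(Cent (g : Module.End F V))).1 v) = (z : ↥(Cent (g : Module.End F V))).1 (T.1 v)
    rw [hz, hz]
    exact (mem_Cent.1 T.2 v).symm
  have hz1 : ∀ c : ↥(Cent (g : Module.End F V)), (z : ↥(Cent (g : Module.End F V))) * c = c → c = 0 := by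
    intro c hc
    apply Subtype.ext
    apply LinearMap.ext
    intro v
    apply hfix
    have h1 := LinearMap.congr_fun (congrArg Subtype.val hc) v
    change (z : ↥(Cent (g : Module.End F V))).1 (c.1 v) = c.1 v at h1
    rw [hz] at h1
    exact h1
  obtain ⟨φ, -⟩ := exists_isoU B ε hε hB hnd g hg
  have hWS' : WS r ↥s.U := by
    have := finite_subgroup (F := F) (Iso (fun u v => B u v) ⊓ CL F g.toEquiv)
    exact hWS.congr φ
  have hr := natCast_eq_zero (r := r) (g : Module.End F V)
  have hnt : Nontrivial ↥(Cent (g : Module.End F V)) := by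
    obtain ⟨v, hv⟩ := hV
    refine ⟨⟨1, 0, fun h => hv ?_⟩⟩
    exact LinearMap.congr_fun (congrArg Subtype.val h) v
  have hF : Nat.card F = 2 ∧ p = 3 := by
    obtain ⟨n, D, d, hD, hd, ⟨e⟩⟩ := IsSemisimpleRing.exists_ringEquiv_pi_matrix_divisionRing
      ↥(Cent (g : Module.End F V))
    have hi : Nonempty (Fin n) := by
      by_contra hne
      rw [not_nonempty_iff] at hne
      exact (one_ne_zero (α := ↥(Cent (g : Module.End F V)))) (e.injective (Subsingleton.elim _ _))
    obtain ⟨i⟩ := hi
    obtain ⟨h3, h4⟩ := ring_main e s hr hp2 x y z hxy hzc hzp hz1 hzU hWS' i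
    obtain ⟨h5, h6, h7⟩ := exists_component e z hzc hzp hz1 i
    have hfD := finite_D e i
    have hch := charP_D e hr i
    obtain ⟨f, hfi, hf⟩ := exists_embed e i
    let _ : Field (D i) := littleWedderburn (D i)
    have := Fintype.ofFinite (D i)
    obtain ⟨c, hc⟩ := exists_scalar h5
    have hne : Nonempty (Fin (d i)) := ⟨0⟩
    have hr2 : r = 2 := by
      have h8 : r ∣ Nat.card (D i) := dvd_card_field
      rw [h4] at h8
      have h9 : r ∣ 2 := (Fact.out (p := r.Prime)).dvd_of_dvd_pow (show r ∣ 2 ^ 2 from h8)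
      exact (Nat.prime_dvd_prime_iff_eq Fact.out Nat.prime_two).1 h9
    have hle : Nat.card F ≤ 4 := by
      rw [← h4]
      exact Nat.card_le_card_of_injective f hfi
    have h2 : 2 ∣ Nat.card F := by
      have h8 : r ∣ Nat.card F := dvd_card_field
      rwa [hr2] at h8
    have hlt : 1 < Nat.card F := Finite.one_lt_card
    have hne4 : Nat.card F ≠ 4 := by
      intro hF4
      have hsurj : Function.Surjective f := by
        have := Fintype.ofFinite F
        refine ((Fintype.bijective_iff_injective_and_card f).2 ⟨hfi, ?_⟩).2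
        rw [← Nat.card_eq_fintype_card, ← Nat.card_eq_fintype_card, hF4, h4]
      obtain ⟨a, ha⟩ := hsurj c
      have h8 : e (z : ↥(Cent (g : Module.End F V))) i = e (scal (g : Module.End F V) a) i := by
        rw [hf, ha, hc]
      have h9 : e (s (z : ↥(Cent (g : Module.End F V)))) i ≠ e (s (scal (g : Module.End F V) a)) i := by
        rw [hs, inv_scal, ← h8, ← hs, (RInv.mem_U' s).1 hzU]
        intro h
        have h10 : e (z : ↥(Cent (g : Module.End F V))) i * e (z : ↥(Cent (g : Module.End F V))) i = 1 := by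
          have h9 : e (((z⁻¹ : (↥(Cent (g : Module.End F V)))ˣ)) : ↥(Cent (g : Module.End F V))) i *
              e (z : ↥(Cent (g : Module.End F V))) i = 1 := by
            rw [← Pi.mul_apply, ← map_mul, Units.inv_mul, map_one, Pi.one_apply]
          rwa [h] at h9
        obtain ⟨k, hk⟩ := hp.odd_of_ne_two hp2
        apply h7
        rw [hk, pow_succ, pow_mul, pow_two, h10, one_pow, one_mul] at h6
        exact h6
      have h10 := moved_bound e s hr hWS' (moved_of e s h8 h9)
      omega
    refine ⟨by omega, ?_⟩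
    have hc1 : c ≠ 1 := by
      rintro rfl
      apply h7
      rw [hc, map_one]
    have hcp : c ^ p = 1 := by
      have h8 : Matrix.scalar (Fin (d i)) (c ^ p) = Matrix.scalar (Fin (d i)) 1 := by
        rw [map_pow, ← hc, map_one]
        exact h6
      exact Matrix.scalar_inj.1 h8
    have hc0 : c ≠ 0 := by
      rintro rfl
      rw [zero_pow hp.ne_zero] at hcp
      exact zero_ne_one hcp
    have hc3 : c ^ 3 = 1 := by
      have h8 := FiniteField.pow_card_sub_one_eq_one c hc0
      rw [← Nat.card_eq_fintype_card, h4] at h8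
      exact h8
    have ho : orderOf c = p := orderOf_eq_prime hcp hc1
    have h8 := orderOf_dvd_of_pow_eq_one hc3
    rw [ho] at h8
    exact (Nat.prime_dvd_prime_iff_eq hp Nat.prime_three).1 h8
  obtain ⟨hF2, hp3⟩ := hF
  refine ⟨hp3, hF2, ?_⟩
  subst hp3
  have h20 : (2 : F) = 0 := by
    have h8 : r ∣ Nat.card F := dvd_card_field
    rw [hF2] at h8
    have h9 := (Nat.prime_dvd_prime_iff_eq Fact.out Nat.prime_two).1 h8
    subst h9
    exact_mod_cast CharP.cast_eq_zero F 2
  have h01 : ∀ a : F, a = 0 ∨ a = 1 := by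
    intro a
    by_contra hne
    push Not at hne
    have := Fintype.ofFinite F
    classical
    have h1 : ({0, 1, a} : Finset F).card ≤ Fintype.card F := Finset.card_le_univ _
    rw [← Nat.card_eq_fintype_card, hF2] at h1
    rw [Finset.card_insert_of_notMem, Finset.card_insert_of_notMem, Finset.card_singleton] at h1
    · omega
    · simp [Ne.symm hne.2]
    · simp [Ne.symm hne.1]
  have hgg : (g : Module.End F V) * (g : Module.End F V) = (1 : F) • 1 + (1 : F) • (g : Module.End F V) := by
    apply LinearMap.ext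
    intro v
    have h1 : g (g (g v)) = v := by
      have := LinearEquiv.congr_fun hgp v
      rw [pow_succ, pow_succ, pow_one] at this
      exact this
    have h2 : g (g (g v) + g v + v) = g (g v) + g v + v := by
      rw [map_add, map_add, h1]
      abel
    have h3 := hfix _ h2
    change g (g v) = (1 : F) • v + (1 : F) • g v
    rw [one_smul, one_smul]
    have h4 : ∀ w : V, w + w = 0 := fun w => by rw [← two_smul F w, h20, zero_smul]
    have h5 : g (g v) = (g (g v) + g v + v) + (v + g v) := by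
      have e : (g (g v) + g v + v) + (v + g v) = g (g v) + (g v + g v) + (v + v) := by abel
      rw [e, h4, h4, add_zero, add_zero]
    rw [h5, h3, zero_add]
  obtain ⟨D, _, _, d, ⟨e⟩, hD, hdim⟩ := exists_quad (a := (1 : F)) (b := 1) (fun a => by
    rcases h01 a with rfl | rfl
    · norm_num
    · intro h
      rw [one_pow, mul_one, left_eq_add] at h
      exact one_ne_zero h) (g : Module.End F V) hgg
  have hd : NeZero d := ⟨by
    rintro rfl
    obtain ⟨v, hv⟩ := hV
    have h1 : Module.finrank F V = 0 := by omega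
    have := Module.finrank_zero_iff.1 h1
    exact hv (Subsingleton.elim _ _)⟩
  let e' : ↥(Cent (g : Module.End F V)) ≃+* ∀ _ : Unit, Matrix (Fin d) (Fin d) D :=
    e.trans (RingEquiv.piUnique (fun _ : Unit => Matrix (Fin d) (Fin d) D)).symm
  obtain ⟨h3, -⟩ := ring_main (ι := Unit) (D := fun _ => D) (d := fun _ => d) e' s hr hp2 x y z hxy hzc hzp hz1 hzU
    hWS' ()
  rw [← hdim, h3]

end Free

end Cfsg.Agent.H236
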