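import Cfsg.Agent.H236.Lin

/-!
# `PSL_n` and `PSU_n` (helper236)

`z` an element of `K = PSL_n(F)`, `PSU_n(q)` of prime order `p ≠ r` (`r` the characteristic), `WS r C_K(z)`.

* `psl_odd`, `psu_odd` : `p` odd, `z = [x, y]`, `x`, `y` of order `p` commuting with `z` and inverted by `h` commuting
  with `z`;
* `psl_two`, `psu_two` : `p = 2`.
-/

set_option autoImplicit false
set_option linter.unusedSectionVars false

namespace Cfsg.Agent.H236

open Subgroup Cfsg Cfsg.Agent.BpLin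

universe u

section PSL

variable {F : Type u} [Field F] [Finite F] {n r : ℕ} [Fact r.Prime] [CharP F r] {p : ℕ} [hp : Fact p.Prime]

/-- from `SL` to the centralizer ring -/
theorem ws_CM {Z : Matrix.SpecialLinearGroup (Fin n) F}
    (h : WS r ↥(centralizer ({Z} : Set (Matrix.SpecialLinearGroup (Fin n) F)))) : WS r (↥(CM Z.1))ˣ := by
  let f : (↥(CM Z.1))ˣ →* Fˣ :=
    Units.map ((Matrix.detMonoidHom (n := Fin n) (R := F)).comp ((CM Z.1).subtype : ↥(CM Z.1) →* Matrix (Fin n) (Fin n) F))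
  refine WS.of_ker (C := Fˣ) f ?_
  have hdet : ∀ u : f.ker, (((u : (↥(CM Z.1))ˣ) : ↥(CM Z.1)) : Matrix (Fin n) (Fin n) F).det = 1 := by
    intro u
    have h1 := u.2
    rw [MonoidHom.mem_ker] at h1
    exact congrArg Units.val h1
  let g : f.ker →* ↥(centralizer ({Z} : Set (Matrix.SpecialLinearGroup (Fin n) F))) :=
    { toFun := fun u => ⟨⟨(((u : (↥(CM Z.1))ˣ) : ↥(CM Z.1)) : Matrix (Fin n) (Fin n) F), hdet u⟩,
        mem_centralizer_singleton_iff.2 (Subtype.ext (mem_CM.1 ((u : (↥(CM Z.1))ˣ) : ↥(CM Z.1)).2).symm)⟩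
      map_one' := rfl
      map_mul' := fun _ _ => rfl }
  refine h.of_injective g fun u v huv => ?_
  apply Subtype.ext
  apply Units.ext
  apply Subtype.ext
  exact congrArg (fun w : ↥(centralizer ({Z} : Set (Matrix.SpecialLinearGroup (Fin n) F))) =>
    (w.1 : Matrix (Fin n) (Fin n) F)) huv

/-- **`PSL_n(F)`, `p` odd.** -/
theorem psl_odd (hp2 : p ≠ 2) (hpF : (p : F) ≠ 0) {x y h z : Matrix.ProjectiveSpecialLinearGroup (Fin n) F}
    (hx : x ^ p = 1) (hy : y ^ p = 1) (hz : z = x * y * x⁻¹ * y⁻¹) (hxz : x * z = z * x) (hyz : y * z = z * y)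
    (hhz : h * z = z * h) (h1 : h * x * h⁻¹ = x⁻¹) (h2 : h * y * h⁻¹ = y⁻¹) (hz1 : z ≠ 1)
    (hWS : WS r ↥(centralizer ({z} : Set (Matrix.ProjectiveSpecialLinearGroup (Fin n) F)))) : False := by
  obtain ⟨X, Y, Z, hZz, hXY, hXZ, hYZ, hZp⟩ := exists_lift (π := QuotientGroup.mk'
    (Subgroup.center (Matrix.SpecialLinearGroup (Fin n) F))) (QuotientGroup.mk'_surjective _)
    (by rw [QuotientGroup.ker_mk']) (hp.out.odd_of_ne_two hp2) hx hy hz hxz hyz hhz h1 h2
  have h3 : WS r ↥(centralizer ({Z} : Set (Matrix.SpecialLinearGroup (Fin n) F))) := by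
    refine ws_lift (π := QuotientGroup.mk' (Subgroup.center (Matrix.SpecialLinearGroup (Fin n) F)))
      (by rw [QuotientGroup.ker_mk']) ?_
    rw [hZz]
    exact hWS
  refine mat_odd (r := r) hp2 hpF (X := X.toGL) (Y := Y.toGL) (Z := Z.toGL) ?_ ?_ ?_ ?_ ?_ (ws_CM h3)
  · rw [← hXY, map_mul, map_mul, map_mul, map_inv, map_inv]
  · rw [← map_mul, hXZ, map_mul]
  · rw [← map_mul, hYZ, map_mul]
  · rw [← map_pow, hZp, map_one]
  · intro h
    apply hz1
    rw [← hZz]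
    have h4 : Z = 1 := Matrix.SpecialLinearGroup.toGL_injective (by rw [h, map_one])
    rw [h4, map_one]

/-- **`PSL_n(F)`, `p = 2`.** -/
theorem psl_two (h2 : (2 : F) ≠ 0) {z : Matrix.ProjectiveSpecialLinearGroup (Fin n) F} (hz : z ^ 2 = 1)
    (hWS : WS r ↥(centralizer ({z} : Set (Matrix.ProjectiveSpecialLinearGroup (Fin n) F)))) :
    n ≤ 2 ∨ (n ≤ 4 ∧ Nat.card F ≤ 3) := by
  rcases Nat.eq_zero_or_pos n with h0 | h0
  · left; omega
  obtain ⟨Z, rfl⟩ := QuotientGroup.mk'_surjective (Subgroup.center (Matrix.SpecialLinearGroup (Fin n) F)) z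
  have h3 : WS r ↥(centralizer ({Z} : Set (Matrix.SpecialLinearGroup (Fin n) F))) :=
    ws_lift (π := QuotientGroup.mk' (Subgroup.center (Matrix.SpecialLinearGroup (Fin n) F)))
      (by rw [QuotientGroup.ker_mk']) hWS
  have h4 : Z ^ 2 ∈ Subgroup.center (Matrix.SpecialLinearGroup (Fin n) F) := by
    rw [← map_pow] at hz
    exact (QuotientGroup.eq_one_iff _).1 hz
  obtain ⟨l, hl, hlZ⟩ := Matrix.SpecialLinearGroup.mem_center_iff.1 h4
  refine mat_two (r := r) h2 (l := l) ?_ ?_ (ws_CM h3)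
  · rintro rfl
    rw [zero_pow (by rw [Fintype.card_fin]; omega)] at hl
    exact zero_ne_one hl
  · have h5 : (Z : Matrix (Fin n) (Fin n) F) * (Z : Matrix (Fin n) (Fin n) F) = ((Z ^ 2 : Matrix.SpecialLinearGroup (Fin n) F) :
        Matrix (Fin n) (Fin n) F) := by rw [pow_two]; rfl
    rw [h5, ← hlZ, Matrix.scalar_apply, Matrix.smul_one_eq_diagonal]

end PSL

section PSU

variable {F : Type u} [Field F] [Fintype F] {n q r : ℕ} [Fact r.Prime] [CharP F r] {p : ℕ} [hp : Fact p.Prime]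

/-- from `SU` to the unitary group of the centralizer ring -/
theorem exists_inv (hF : Fintype.card F = q ^ 2) (Z : SU n F q)
    (h : WS r ↥(centralizer ({Z} : Set (SU n F q)))) :
    ∃ (s : RInv ↥(CM (Z : Matrix.SpecialLinearGroup (Fin n) F).1)) (b b' : F), b ≠ b' ∧
      s (mscal _ b) = mscal _ b' ∧ WS r ↥s.U := by
  obtain ⟨σ₀, hσ⟩ := ClassicalGeometry.GUBasic.exists_powHom hF
  have hσ2 : ∀ a, σ₀ (σ₀ a) = a := by
    intro a
    rw [hσ, hσ, ← pow_mul, ← pow_two, ← hF, FiniteField.pow_card]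
  obtain ⟨b, hb⟩ := Cfsg.Agent.LieClassical.HermBasic.exists_not_fixed hF
  have hAu : (Z : Matrix.SpecialLinearGroup (Fin n) F).1 * cst σ₀ (Z : Matrix.SpecialLinearGroup (Fin n) F).1 = 1 :=
    (mem_SU_iff_cst hF hσ _).1 Z.2
  refine ⟨centInv hσ2 hAu, b, b ^ q, fun h => hb h.symm, ?_, ?_⟩
  · apply Subtype.ext
    change cst σ₀ (Matrix.scalar (Fin n) b) = Matrix.scalar (Fin n) (b ^ q)
    rw [cst_scalar, hσ]
  let E := CM (Z : Matrix.SpecialLinearGroup (Fin n) F).1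
  let f : ↥(centInv hσ2 hAu).U →* Fˣ :=
    (Units.map ((Matrix.detMonoidHom (n := Fin n) (R := F)).comp ((E).subtype : ↥E →* Matrix (Fin n) (Fin n) F))).comp
      (centInv hσ2 hAu).U.subtype
  refine WS.of_ker (C := Fˣ) f ?_
  have hdet : ∀ u : f.ker, (((u.1.1 : (↥E)ˣ) : ↥E) : Matrix (Fin n) (Fin n) F).det = 1 := by
    intro u
    have h1 := u.2
    rw [MonoidHom.mem_ker] at h1
    exact congrArg Units.val h1
  have hSU : ∀ u : f.ker, (⟨(((u.1.1 : (↥E)ˣ) : ↥E) : Matrix (Fin n) (Fin n) F), hdet u⟩ :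
      Matrix.SpecialLinearGroup (Fin n) F) ∈ SU n F q := by
    intro u
    refine (mem_SU_iff_cst hF hσ _).2 ?_
    have h1 : ((u.1.1 : (↥E)ˣ) : ↥E) * centInv hσ2 hAu ((u.1.1 : (↥E)ˣ) : ↥E) = 1 := u.1.2
    exact congrArg (fun x : ↥E => (x : Matrix (Fin n) (Fin n) F)) h1
  let g : f.ker →* ↥(centralizer ({Z} : Set (SU n F q))) :=
    { toFun := fun u => ⟨⟨⟨(((u.1.1 : (↥E)ˣ) : ↥E) : Matrix (Fin n) (Fin n) F), hdet u⟩, hSU u⟩,
        mem_centralizer_singleton_iff.2 (Subtype.ext (Subtype.ext (mem_CM.1 ((u.1.1 : (↥E)ˣ) : ↥E).2).symm))⟩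
      map_one' := rfl
      map_mul' := fun _ _ => rfl }
  refine h.of_injective g fun u v huv => ?_
  apply Subtype.ext
  apply Subtype.ext
  apply Units.ext
  apply Subtype.ext
  exact congrArg (fun w : ↥(centralizer ({Z} : Set (SU n F q))) =>
    (w.1.1 : Matrix (Fin n) (Fin n) F)) huv

/-- **`PSU_n(q)`, `p` odd.** -/
theorem psu_odd (hF : Fintype.card F = q ^ 2) (hp2 : p ≠ 2) (hpF : (p : F) ≠ 0) {x y h z : PSU n F q}
    (hx : x ^ p = 1) (hy : y ^ p = 1) (hz : z = x * y * x⁻¹ * y⁻¹) (hxz : x * z = z * x) (hyz : y * z = z * y)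
    (hhz : h * z = z * h) (h1 : h * x * h⁻¹ = x⁻¹) (h2 : h * y * h⁻¹ = y⁻¹) (hz1 : z ≠ 1)
    (hWS : WS r ↥(centralizer ({z} : Set (PSU n F q)))) : p = 3 ∧ q = 2 ∧ n ≤ 9 := by
  obtain ⟨X, Y, Z, hZz, hXY, hXZ, hYZ, hZp⟩ := exists_lift (π := QuotientGroup.mk'
    (Subgroup.center (SU n F q))) (QuotientGroup.mk'_surjective _)
    (by rw [QuotientGroup.ker_mk']) (hp.out.odd_of_ne_two hp2) hx hy hz hxz hyz hhz h1 h2
  have h3 : WS r ↥(centralizer ({Z} : Set (SU n F q))) := by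
    refine ws_lift (π := QuotientGroup.mk' (Subgroup.center (SU n F q)))
      (by rw [QuotientGroup.ker_mk']) ?_
    rw [hZz]
    exact hWS
  obtain ⟨s, b, b', hb, hs, hU⟩ := exists_inv hF Z h3
  have hq : 2 ≤ q := by
    have h4 : 1 < Fintype.card F := Fintype.one_lt_card
    rw [hF] at h4
    by_contra hlt
    interval_cases q
    · omega
    · omega
  have h5 := herm_odd (r := r) hp2 hpF (by rw [Nat.card_eq_fintype_card, hF]; nlinarith)
    (X := (X : Matrix.SpecialLinearGroup (Fin n) F).toGL) (Y := (Y : Matrix.SpecialLinearGroup (Fin n) F).toGL)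
    (Z := (Z : Matrix.SpecialLinearGroup (Fin n) F).toGL) (by
      rw [← hXY]
      rw [Subgroup.coe_mul, Subgroup.coe_mul, Subgroup.coe_mul, Subgroup.coe_inv, Subgroup.coe_inv,
        map_mul, map_mul, map_mul, map_inv, map_inv])
    (by rw [← map_mul, ← map_mul, ← Subgroup.coe_mul, hXZ, Subgroup.coe_mul])
    (by rw [← map_mul, ← map_mul, ← Subgroup.coe_mul, hYZ, Subgroup.coe_mul])
    (by rw [← map_pow, ← SubgroupClass.coe_pow, hZp, OneMemClass.coe_one, map_one])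
    (by
      intro h
      apply hz1
      rw [← hZz]
      have h4 : (Z : Matrix.SpecialLinearGroup (Fin n) F) = 1 :=
        Matrix.SpecialLinearGroup.toGL_injective (by rw [h, map_one])
      have h5 : Z = 1 := Subtype.ext h4
      rw [h5, map_one]) s hb hs hU
  refine ⟨h5.1, ?_, h5.2.2⟩
  have h6 := h5.2.1
  rw [Nat.card_eq_fintype_card, hF] at h6
  nlinarith

/-- **`PSU_n(q)`, `p = 2`.** -/
theorem psu_two (hF : Fintype.card F = q ^ 2) (hn : 3 ≤ n) (h2 : (2 : F) ≠ 0) {z : PSU n F q} (hz : z ^ 2 = 1)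
    (hWS : WS r ↥(centralizer ({z} : Set (PSU n F q)))) : n ≤ 4 ∧ q ≤ 3 := by
  obtain ⟨Z, rfl⟩ := QuotientGroup.mk'_surjective (Subgroup.center (SU n F q)) z
  have h3 : WS r ↥(centralizer ({Z} : Set (SU n F q))) :=
    ws_lift (π := QuotientGroup.mk' (Subgroup.center (SU n F q))) (by rw [QuotientGroup.ker_mk']) hWS
  have h4 : Z ^ 2 ∈ Subgroup.center (SU n F q) := by
    rw [← map_pow] at hz
    exact (QuotientGroup.eq_one_iff _).1 hz
  obtain ⟨l, hln, hlq, hlZ⟩ := (LieClassical.SUBasic.mem_center_SU_iff hF hn _).1 h4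
  obtain ⟨s, b, b', hb, hs, hU⟩ := exists_inv hF Z h3
  have h5 := herm_two (r := r) h2 (A := (Z : Matrix.SpecialLinearGroup (Fin n) F).1) (l := l) ?_ ?_ s hb hs hU
  · rcases h5 with h5 | ⟨h5, h6⟩
    · omega
    · refine ⟨h5, ?_⟩
      rw [Nat.card_eq_fintype_card, hF] at h6
      by_contra hlt
      nlinarith
  · rintro rfl
    rw [zero_pow (by omega)] at hln
    exact zero_ne_one hln
  · have h5 : (Z : Matrix.SpecialLinearGroup (Fin n) F).1 * (Z : Matrix.SpecialLinearGroup (Fin n) F).1 =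
        ((Z ^ 2 : SU n F q) : Matrix.SpecialLinearGroup (Fin n) F).1 := by
      rw [pow_two]; rfl
    rw [h5, hlZ]
    ext i j
    by_cases hij : i = j
    · subst hij
      simp [LieClassical.SUBasic.coe_suScalar]
    · simp [LieClassical.SUBasic.coe_suScalar, hij]

end PSU

end Cfsg.Agent.H236
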