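import Cfsg.Agent.H236.Lin

/-!
# Isometries with square `± 1` (helper236)

`g` an isometry with `g² = ±1` in odd characteristic, `WS r` for the isometries commuting with `g`.

* `neg_two` : `g² = -1` : `dim V ≤ 2` or `dim V ≤ 4`, `|F| ≤ 3`;
* `sp_two` : `V` symplectic: `dim V ≤ 2` or `dim V ≤ 4`, `|F| ≤ 3`;
* `orth_two` : `V` orthogonal: `dim V ≤ 4` or `dim V ≤ 8`, `|F| ≤ 3`.
-/

set_option autoImplicit false
set_option linter.unusedSectionVars false

namespace Cfsg.Agent.H236

open Subgroup Cfsg Cfsg.Agent.BpLin Cfsg.Agent.BpCl Cfsg.Agent.BpCl.Free QuadraticMap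
open Cfsg.Agent.LieClassical.OrthCore

universe u v

variable {F : Type u} {V : Type v} [Field F] [Finite F] [AddCommGroup V] [Module F V] [Module.Finite F V]
  {r : ℕ} [Fact r.Prime] [CharP F r]

theorem card_ne_two (r : ℕ) [Fact r.Prime] [CharP F r] (h2 : (2 : F) ≠ 0) : 3 ≤ Nat.card F := by
  by_contra hlt
  have h5 : 1 < Nat.card F := Finite.one_lt_card
  have h6 : Nat.card F = 2 := by omega
  apply h2
  have h3 : r ∣ Nat.card F := dvd_card_field
  rw [h6] at h3
  have h5 := (Nat.prime_dvd_prime_iff_eq Fact.out Nat.prime_two).1 h3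
  subst h5
  exact_mod_cast CharP.cast_eq_zero F 2

/-- **`g² = -1`.** -/
theorem neg_two (h2 : (2 : F) ≠ 0) (B : LinearMap.BilinForm F V) (ε : F) (hε : ε * ε = 1)
    (hB : ∀ u v, B u v = ε * B v u) (hnd : ∀ u, (∀ v, B u v = 0) → u = 0) (g : V ≃ₗ[F] V)
    (hg : ∀ u v, B (g u) (g v) = B u v) (hgg : ∀ v, g (g v) = -v)
    (hWS : WS r ↥(Iso (fun u v => B u v) ⊓ CL F g.toEquiv)) :
    Module.finrank F V ≤ 2 ∨ (Module.finrank F V ≤ 4 ∧ Nat.card F ≤ 3) := by
  classical
  have h3F : 3 ≤ Nat.card F := card_ne_two r h2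
  obtain ⟨φ, -⟩ := exists_isoU B ε hε hB hnd g hg
  set s := inv hnd hε hB hg with hs
  have hWS' : WS r ↥s.U := by
    have := finite_subgroup (F := F) (Iso (fun u v => B u v) ⊓ CL F g.toEquiv)
    exact hWS.congr φ
  have hr := natCast_eq_zero (r := r) (g : Module.End F V)
  obtain ⟨z, hzU, hz⟩ := exists_units hε hB hnd hg hg (fun v => rfl)
  have hzc : (z : ↥(Cent (g : Module.End F V))) ∈ Subring.center ↥(Cent (g : Module.End F V)) := by
    rw [Subring.mem_center_iff]
    intro T
    apply Subtype.ext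
    apply LinearMap.ext
    intro v
    change T.1 ((z : ↥(Cent (g : Module.End F V))).1 v) = (z : ↥(Cent (g : Module.End F V))).1 (T.1 v)
    rw [hz, hz]
    exact (mem_Cent.1 T.2 v).symm
  have hsz : s (z : ↥(Cent (g : Module.End F V))) = -(z : ↥(Cent (g : Module.End F V))) := by
    rw [(RInv.mem_U' s).1 hzU]
    have h1 : (z : ↥(Cent (g : Module.End F V))) * (-(z : ↥(Cent (g : Module.End F V)))) = 1 := by
      apply Subtype.ext
      apply LinearMap.ext
      intro v
      change (z : ↥(Cent (g : Module.End F V))).1 (-((z : ↥(Cent (g : Module.End F V))).1 v)) = v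
      rw [hz, map_neg, hz, hgg, neg_neg]
    rw [← Units.mul_right_inj z, Units.mul_inv, h1]
  have hggE : (g : Module.End F V) * (g : Module.End F V) = (-1 : F) • (1 : Module.End F V) := by
    apply LinearMap.ext
    intro v
    change g (g v) = (-1 : F) • v
    rw [hgg, neg_one_smul]
  by_cases hsq : ∃ μ : F, (-1 : F) = μ * μ
  · obtain ⟨μ, hμμ⟩ := hsq
    have hμ : μ ≠ 0 := by
      rintro rfl
      rw [mul_zero] at hμμ
      exact (neg_ne_zero.2 one_ne_zero) hμμ
    rw [hμμ] at hggE
    obtain ⟨ι, _, _, c, d, _, e, hci, hcS, hsum, hcg, hsc⟩ :=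
      exists_eigen (g : Module.End F V) {μ, -μ} (eigen_two h2 hμ hggE)
    have hι : Fintype.card ι ≤ 2 := by
      have h1 := Finset.card_le_card_of_injOn (s := Finset.univ) c (fun i _ => hcS i) hci.injOn
      rw [Finset.card_univ] at h1
      exact h1.trans Finset.card_le_two
    have hc0 : ∀ i, c i ≠ 0 := by
      intro i h
      have := hcS i
      rw [Finset.mem_insert, Finset.mem_singleton, h] at this
      rcases this with h | h
      · exact hμ h.symm
      · exact hμ (neg_eq_zero.1 h.symm)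
    have hsc' : ∀ (a : F) i, e (scal (g : Module.End F V) a) i = Matrix.scalar (Fin (d i)) a := fun a i =>
      hsc _ a (LinearMap.ext fun v => rfl) i
    have hzg : ∀ i, e (z : ↥(Cent (g : Module.End F V))) i = Matrix.scalar (Fin (d i)) (c i) := fun i =>
      hcg _ (LinearMap.ext fun v => hz v) i
    have hb := fun i => moved_bound e s hr hWS' (i := i)
      (moved_of e s (Z := z) (C := scal (g : Module.End F V) (c i)) (by rw [hsc', hzg]) (by
        rw [hs, inv_scal, ← hs, hsz, hsc', map_neg, Pi.neg_apply, hzg, ← map_neg]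
        intro h
        have : Nonempty (Fin (d i)) := ⟨0⟩
        have h4 : -(c i) = c i := Matrix.scalar_inj.1 h
        have h5 : (2 : F) * c i = 0 := by linear_combination -h4
        exact (mul_ne_zero h2 (hc0 i)) h5))
    left
    rw [← hsum]
    refine (sum_le_of hι fun j => (?_ : d j ≤ 1)).trans (by norm_num)
    rcases hb j with h | ⟨-, h⟩
    · exact h
    · exfalso
      -- in the field of three elements `-1` is not a square
      have := Fintype.ofFinite F
      have h4 := FiniteField.pow_card_sub_one_eq_one μ hμ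
      rw [← Nat.card_eq_fintype_card, show Nat.card F - 1 = 2 by omega, pow_two, ← hμμ] at h4
      have h5 : (2 : F) = 0 := by linear_combination -h4
      exact h2 h5
  · obtain ⟨D, _, _, d, ⟨e⟩, hD, hdim⟩ := exists_quad (a := (-1 : F)) (b := 0) (fun a ha => hsq ⟨a, by
      rw [← mat_two.ha' ha]⟩) (g : Module.End F V) (by rw [hggE, zero_smul, add_zero])
    rcases Nat.eq_zero_or_pos d with h0 | h0
    · left; omega
    have hd : NeZero d := ⟨by omega⟩
    have hnt : ∃ v : V, v ≠ 0 := by
      by_contra hne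
      push Not at hne
      have : Subsingleton V := ⟨fun a b => by rw [hne a, hne b]⟩
      rw [Module.finrank_zero_of_subsingleton] at hdim
      omega
    have h3 := block_small (ι := Unit) (D := fun _ => D) (d := fun _ => d)
      (e.trans (RingEquiv.piUnique (fun _ : Unit => Matrix (Fin d) (Fin d) D)).symm)
      s hr hWS' (i := ()) hzc (by
        intro h
        have h5 : s (z : ↥(Cent (g : Module.End F V))) = z := by
          apply (e.trans (RingEquiv.piUnique (fun _ : Unit => Matrix (Fin d) (Fin d) D)).symm).injective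
          funext i
          exact h
        rw [hsz] at h5
        obtain ⟨v, hv⟩ := hnt
        have h6 : -(g v) = g v := by
          have := LinearMap.congr_fun (congrArg Subtype.val h5) v
          rw [← hz]
          exact this
        have h7 : (2 : F) • g v = 0 := by
          rw [two_smul]
          nth_rewrite 1 [← h6]
          rw [neg_add_cancel]
        have h8 := (smul_eq_zero.1 h7).resolve_left h2
        exact hv (g.map_eq_zero_iff.1 h8))
    rw [hD] at h3
    rcases h3 with h3 | ⟨h3, h5⟩ | ⟨-, h5⟩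
    · left; omega
    · right
      refine ⟨by omega, by nlinarith⟩
    · exfalso
      nlinarith

/-- the `-1`-eigenspace -/
def Wm (g : V ≃ₗ[F] V) : Submodule F V := LinearMap.ker (g.toLinearMap + LinearMap.id)

theorem mem_Wm {g : V ≃ₗ[F] V} {v : V} : v ∈ Wm g ↔ g v = -v := by
  unfold Wm
  rw [LinearMap.mem_ker, LinearMap.add_apply, LinearMap.id_apply, add_eq_zero_iff_eq_neg]
  rfl

theorem isCompl_Wm (h2 : (2 : F) ≠ 0) {g : V ≃ₗ[F] V} (hgg : ∀ v, g (g v) = v) : IsCompl (W0 g) (Wm g) := by
  constructor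
  · rw [Submodule.disjoint_def]
    intro v h0 h1
    rw [mem_W0] at h0
    rw [mem_Wm, h0] at h1
    have h3 : (2 : F) • v = 0 := by
      rw [two_smul]
      nth_rewrite 1 [h1]
      rw [neg_add_cancel]
    exact (smul_eq_zero.1 h3).resolve_left h2
  · rw [codisjoint_iff, eq_top_iff]
    intro v _
    rw [Submodule.mem_sup]
    refine ⟨(2 : F)⁻¹ • (v + g v), ?_, (2 : F)⁻¹ • (v - g v), ?_, ?_⟩
    · refine (W0 g).smul_mem _ (mem_W0.2 ?_)
      rw [map_add, hgg, add_comm]
    · refine (Wm g).smul_mem _ (mem_Wm.2 ?_)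
      rw [map_sub, hgg, neg_sub]
    · rw [← smul_add]
      have : v + g v + (v - g v) = (2 : F) • v := by rw [two_smul]; abel
      rw [this, smul_smul, inv_mul_cancel₀ h2, one_smul]

theorem cross_zero (h2 : (2 : F) ≠ 0) {B : LinearMap.BilinForm F V} {g : V ≃ₗ[F] V}
    (hg : ∀ u v, B (g u) (g v) = B u v) {u v : V} (hu : u ∈ W0 g) (hv : v ∈ Wm g) : B u v = 0 ∧ B v u = 0 := by
  have h1 := hg u v
  have h3 := hg v u
  rw [mem_W0.1 hu, mem_Wm.1 hv, map_neg] at h1
  rw [mem_W0.1 hu, mem_Wm.1 hv, map_neg, LinearMap.neg_apply] at h3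
  constructor
  · have h4 : (2 : F) * B u v = 0 := by linear_combination -h1
    exact (mul_eq_zero.1 h4).resolve_left h2
  · have h4 : (2 : F) * B v u = 0 := by linear_combination -h3
    exact (mul_eq_zero.1 h4).resolve_left h2

theorem nondeg_left {B : LinearMap.BilinForm F V} {W0 W1 : Submodule F V} (hc : IsCompl W0 W1)
    (hcr : ∀ u ∈ W0, ∀ v ∈ W1, B u v = 0) (hnd : ∀ u, (∀ v, B u v = 0) → u = 0) (u : W0)
    (hu : ∀ v : W0, B u v = 0) : u = 0 := by
  apply Subtype.ext
  apply hnd
  intro v
  obtain ⟨v0, v1, rfl⟩ := exists_sum hc v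
  rw [map_add, hu, hcr _ u.2 _ v1.2, add_zero]

/-- **Symplectic groups.** -/
theorem sp_two (h2 : (2 : F) ≠ 0) {B : LinearMap.BilinForm F V}
    (hA : B.IsAlt) (hnd : ∀ u, (∀ v, B u v = 0) → u = 0) {g : V ≃ₗ[F] V}
    (hg : ∀ u v, B (g u) (g v) = B u v) {a : F} (hgg : ∀ v, g (g v) = a • v)
    (hWS : WS r ↥(Iso (fun u v => B u v) ⊓ CL F g.toEquiv)) :
    Module.finrank F V ≤ 2 ∨ (Module.finrank F V ≤ 4 ∧ Nat.card F ≤ 3) := by
  by_cases hV : ∃ v : V, v ≠ 0
  swap
  · left
    push Not at hV
    have : Subsingleton V := ⟨fun a b => by rw [hV a, hV b]⟩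
    rw [Module.finrank_zero_of_subsingleton]
    norm_num
  have ha : a = 1 ∨ a = -1 := by
    have h1 : ∃ u v, B u v ≠ 0 := by
      by_contra hcon
      push Not at hcon
      obtain ⟨v, hv⟩ := hV
      exact hv (hnd v (hcon v))
    obtain ⟨u, v, huv⟩ := h1
    have h3 : B (g (g u)) (g (g v)) = B u v := by rw [hg, hg]
    rw [hgg, hgg, map_smul, map_smul, LinearMap.smul_apply, smul_eq_mul, smul_eq_mul] at h3
    have h4 : a * a = 1 := by
      apply mul_right_cancel₀ huv
      linear_combination h3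
    exact mul_self_eq_one_iff.1 h4
  rcases ha with rfl | rfl
  · have hgg' : ∀ v, g (g v) = v := fun v => by rw [hgg, one_smul]
    have hc := isCompl_Wm h2 hgg'
    have hsum : ∀ u0 v0 : W0 g, ∀ u1 v1 : Wm g, B ((u0 : V) + u1) ((v0 : V) + v1) = B u0 v0 + B u1 v1 := by
      intro u0 v0 u1 v1
      rw [LinearMap.map_add₂, map_add, map_add, (cross_zero h2 hg u0.2 v1.2).1, (cross_zero h2 hg v0.2 u1.2).2]
      ring
    have hsum' : ∀ u0 v0 : Wm g, ∀ u1 v1 : W0 g, B ((u0 : V) + u1) ((v0 : V) + v1) = B u0 v0 + B u1 v1 := by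
      intro u0 v0 u1 v1
      rw [add_comm (u0 : V), add_comm (v0 : V), hsum, add_comm]
    have h0 : WS r ↥(Iso (fun u v : W0 g => B u v)) := by
      refine ws_left (f := fun u v => B u v) hc hsum (g := g.toEquiv) (fun u v => map_add g u v) (c := 1)
        (fun v hv => ?_) (fun v hv => ?_) hWS
      · rw [one_smul]
        exact mem_W0.1 hv
      · change g v ∈ Wm g
        rw [mem_Wm.1 hv]
        exact (Wm g).neg_mem hv
    have h1 : WS r ↥(Iso (fun u v : Wm g => B u v)) := by
      refine ws_left (f := fun u v => B u v) hc.symm hsum' (g := g.toEquiv) (fun u v => map_add g u v) (c := -1)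
        (fun v hv => ?_) (fun v hv => ?_) hWS
      · rw [neg_one_smul]
        exact mem_Wm.1 hv
      · change g v ∈ W0 g
        rw [mem_W0.1 hv]
        exact hv
    have h3 := ws_bilin (r := r) (B := B.restrict (W0 g)) (fun u => hA u)
      (nondeg_left hc (fun u hu v hv => (cross_zero h2 hg hu hv).1) hnd) h0
    have h4 := ws_bilin (r := r) (B := B.restrict (Wm g)) (fun u => hA u)
      (nondeg_left hc.symm (fun u hu v hv => (cross_zero h2 hg hv hu).2) hnd) h1
    have hdim := Submodule.finrank_add_eq_of_isCompl hc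
    by_cases h5 : Nat.card F ≤ 3
    · right
      exact ⟨by omega, h5⟩
    · left
      have h6 : Module.finrank F (W0 g) = 0 := by
        by_contra hne
        exact h5 (h3.2 hne)
      omega
  · exact neg_two h2 B (-1) (by ring) (fun u v => by rw [neg_one_mul]; exact (hA.neg_eq v u).symm) hnd g hg
      (fun v => by rw [hgg, neg_one_smul]) hWS

/-- **Orthogonal groups.** -/
theorem orth_two (h2 : (2 : F) ≠ 0) {Q : QuadraticForm F V}
    (hQ : Nondeg Q) {g : V ≃ₗ[F] V} (hg : ∀ v, Q (g v) = Q v) {a : F} (hgg : ∀ v, g (g v) = a • v)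
    (hWS : WS r ↥(Iso (fun u _ => Q u) ⊓ CL F g.toEquiv)) :
    Module.finrank F V ≤ 4 ∨ (Module.finrank F V ≤ 8 ∧ Nat.card F ≤ 3) := by
  by_cases hV : ∃ v : V, v ≠ 0
  swap
  · left
    push Not at hV
    have : Subsingleton V := ⟨fun a b => by rw [hV a, hV b]⟩
    rw [Module.finrank_zero_of_subsingleton]
    norm_num
  have hpol : ∀ h : V ≃ₗ[F] V, (∀ v, Q (h v) = Q v) → ∀ u v, polarBilin Q (h u) (h v) = polarBilin Q u v := by
    intro h hh u v
    change polar Q (h u) (h v) = polar Q u v
    unfold polar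
    rw [← map_add, hh, hh, hh]
  have hgB := hpol g hg
  have hnd : ∀ u, (∀ v, polarBilin Q u v = 0) → u = 0 := fun u hu => hQ u hu
  have hI : Iso (fun u _ : V => Q u) = Iso (fun u v : V => polarBilin Q u v) := by
    ext h
    constructor
    · intro h1
      exact hpol h fun v => h1 v v
    · intro h1 u _
      have h3 : polar Q (h u) (h u) = polar Q u u := h1 u u
      rw [polar_self', polar_self'] at h3
      exact mul_left_cancel₀ h2 h3
  have ha : a = 1 ∨ a = -1 := by
    have h1 : ∃ u v, polarBilin Q u v ≠ 0 := by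
      by_contra hcon
      push Not at hcon
      obtain ⟨v, hv⟩ := hV
      exact hv (hnd v (hcon v))
    obtain ⟨u, v, huv⟩ := h1
    have h3 : polarBilin Q (g (g u)) (g (g v)) = polarBilin Q u v := by rw [hgB, hgB]
    rw [hgg, hgg, map_smul, map_smul, LinearMap.smul_apply, smul_eq_mul, smul_eq_mul] at h3
    have h4 : a * a = 1 := by
      apply mul_right_cancel₀ huv
      linear_combination h3
    exact mul_self_eq_one_iff.1 h4
  rcases ha with rfl | rfl
  · have hgg' : ∀ v, g (g v) = v := fun v => by rw [hgg, one_smul]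
    have hc := isCompl_Wm h2 hgg'
    have hsum : ∀ u0 _v0 : W0 g, ∀ u1 _v1 : Wm g, Q ((u0 : V) + u1) = Q u0 + Q u1 := by
      intro u0 _ u1 _
      have h1 : polar Q (u0 : V) u1 = 0 := (cross_zero h2 hgB u0.2 u1.2).1
      rw [QuadraticMap.map_add Q, h1, add_zero]
    have hsum' : ∀ u0 _v0 : Wm g, ∀ u1 _v1 : W0 g, Q ((u0 : V) + u1) = Q u0 + Q u1 := by
      intro u0 _ u1 _
      rw [add_comm (u0 : V), hsum u1 u1 u0 u0, add_comm]
    have h0 : WS r ↥(O (Q.comp (W0 g).subtype)) := by
      rw [← Iso_eq_O]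
      refine ws_left (f := fun u _ => Q u) hc (fun u0 v0 u1 v1 => hsum u0 v0 u1 v1) (g := g.toEquiv)
        (fun u v => map_add g u v) (c := 1) (fun v hv => ?_) (fun v hv => ?_) hWS
      · rw [one_smul]
        exact mem_W0.1 hv
      · change g v ∈ Wm g
        rw [mem_Wm.1 hv]
        exact (Wm g).neg_mem hv
    have h1 : WS r ↥(O (Q.comp (Wm g).subtype)) := by
      rw [← Iso_eq_O]
      refine ws_left (f := fun u _ => Q u) hc.symm (fun u0 v0 u1 v1 => hsum' u0 v0 u1 v1) (g := g.toEquiv)
        (fun u v => map_add g u v) (c := -1) (fun v hv => ?_) (fun v hv => ?_) hWS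
      · rw [neg_one_smul]
        exact mem_Wm.1 hv
      · change g v ∈ W0 g
        rw [mem_W0.1 hv]
        exact hv
    have hnd0 : Nondeg (Q.comp (W0 g).subtype) := fun u hu =>
      nondeg_left (B := polarBilin Q) hc (fun u hu v hv => (cross_zero h2 hgB hu hv).1) hnd u (fun v => hu v)
    have hnd1 : Nondeg (Q.comp (Wm g).subtype) := fun u hu =>
      nondeg_left (B := polarBilin Q) hc.symm (fun u hu v hv => (cross_zero h2 hgB hv hu).2) hnd u (fun v => hu v)
    have h3 := ws_O (r := r) hnd0 h0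
    have h4 := ws_O (r := r) hnd1 h1
    have hdim := Submodule.finrank_add_eq_of_isCompl hc
    by_cases h5 : Nat.card F ≤ 3
    · right
      exact ⟨by omega, h5⟩
    · left
      have h6 : Module.finrank F (W0 g) ≤ 2 := by
        by_contra hne
        exact h5 (h3.2.1 (by omega))
      have h7 : Module.finrank F (Wm g) ≤ 2 := by
        by_contra hne
        exact h5 (h4.2.1 (by omega))
      omega
  · rw [hI] at hWS
    have h3 := neg_two (r := r) h2 (polarBilin Q) 1 (by ring) (fun u v => by
      rw [one_mul]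
      exact polar_comm Q u v) hnd g hgB (fun v => by rw [hgg, neg_one_smul]) hWS
    omega

end Cfsg.Agent.H236
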